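import Mathlib
import Cfsg.Agent.S4479
import Cfsg.Agent.Char.KleinBlock
import Cfsg.Agent.Char.KleinSection
import Cfsg.Agent.Blocks.Idempotent

/-!
Groups with a Klein four Sylow 2-subgroup containing the centralizer of one of its involutions.
-/

set_option autoImplicit false

namespace Cfsg.Agent.Fg24.InvolD8

set_option maxRecDepth 100000 in
set_option maxHeartbeats 4000000 in
theorem degree_table : ∀ a ∈ [1, 3, 5, 7, 9], ∀ b ∈ [1, 3, 5, 7, 9], ∀ c ∈ [1, 3, 5, 7, 9],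
    ∀ e₁ ∈ [(1 : ℤ), -1], ∀ e₂ ∈ [(1 : ℤ), -1], ∀ e₃ ∈ [(1 : ℤ), -1],
    1 + e₁ * a + e₂ * b + e₃ * c = 0 →
      8 * a * b * c % ((a + e₁) * (b + e₂) * (c + e₃)) = 0 →
      let g := 8 * a * b * c / ((a + e₁) * (b + e₂) * (c + e₃))
      g % 2 = 1 → a * a + b * b + c * c + 1 ≤ 4 * g → g = 3 ∨ g = 15 := by
  decide +kernel

theorem card_klein_selfcentralizing {K : Type*} [Group K] [Finite K] (g₀ : ℕ) (hg₀ : Odd g₀)
    (hG : Nat.card K = 4 * g₀) (hnc : ¬ ∃ N : Subgroup K, N.Normal ∧ Nat.card N = g₀)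
    (P : Sylow 2 K) (J : K) (hJ : J ∈ (P : Subgroup K)) (hJ2 : orderOf J = 2)
    (hC : Nat.card (Subgroup.centralizer ({J} : Set K)) = 4) : g₀ = 3 ∨ g₀ = 15 := by
  classical
  cases nonempty_fintype K
  obtain ⟨M, hM⟩ := Blocks.exists_isPModular 2 Nat.prime_two
  obtain ⟨a, ha, hsum⟩ := Char.klein_section M hM g₀ hg₀ hG hnc P J hJ hJ2
  let B : Finset (IrrCharacter K) := Finset.univ.filter fun χ => χ ∈ Cfsg.principalBlock M K
  have hB : ∀ χ, χ ∈ B ↔ χ ∈ Cfsg.principalBlock M K := fun χ => by simp [B]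
  rw [← Finset.sum_filter] at hsum
  change ∑ χ ∈ B, a χ ^ 2 = 4 at hsum
  have htriv : Blocks.triv K ∈ B := (hB _).2 (Blocks.triv_mem_principalBlock hM)
  have ha1 : a (Blocks.triv K) = 1 := by
    have h : (1 : ℂ) = a (Blocks.triv K) := (ha _ ((hB _).1 htriv)).2
    exact_mod_cast h.symm
  rw [← Finset.add_sum_erase _ _ htriv, ha1] at hsum
  have hsq : ∀ χ ∈ B.erase (Blocks.triv K), a χ ^ 2 = 1 := by
    intro χ hχ
    have h0 := (ha χ ((hB χ).1 (Finset.mem_of_mem_erase hχ))).1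
    have hle := Finset.single_le_sum (f := fun ψ => a ψ ^ 2) (fun ψ _ => sq_nonneg _) hχ
    have h2 : a χ ^ 2 ≤ 3 := by linarith
    have h3 : -1 ≤ a χ := by nlinarith
    have h4 : a χ ≤ 1 := by nlinarith
    rcases (by omega : a χ = 1 ∨ a χ = -1) with h | h <;> rw [h] <;> norm_num
  have hcard : (B.erase (Blocks.triv K)).card = 3 := by
    rw [Finset.sum_congr rfl hsq, Finset.sum_const, nsmul_eq_mul, mul_one] at hsum
    omega
  obtain ⟨χ₁, χ₂, χ₃, h12, h13, h23, he⟩ := Finset.card_eq_three.1 hcard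
  have hm : ∀ χ, (χ = χ₁ ∨ χ = χ₂ ∨ χ = χ₃) ↔ χ ∈ B.erase (Blocks.triv K) := fun χ => by
    rw [he]; simp
  have hne : ∀ χ, χ ∈ B.erase (Blocks.triv K) → (χ : K → ℂ) ≠ (fun _ => 1) := fun χ hχ h =>
    Finset.ne_of_mem_erase hχ (Subtype.ext h)
  have m1 := (hm χ₁).1 (Or.inl rfl)
  have m2 := (hm χ₂).1 (Or.inr (Or.inl rfl))
  have m3 := (hm χ₃).1 (Or.inr (Or.inr rfl))
  have hset : Cfsg.principalBlock M K =
      {χ : IrrCharacter K | (χ : K → ℂ) = (fun _ => 1) ∨ χ = χ₁ ∨ χ = χ₂ ∨ χ = χ₃} := by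
    ext χ
    rw [← hB]
    show χ ∈ B ↔ _ ∨ _
    constructor
    · intro hχ
      by_cases h : χ = Blocks.triv K
      · exact Or.inl (by rw [h]; rfl)
      · exact Or.inr ((hm χ).2 (Finset.mem_erase.2 ⟨h, hχ⟩))
    · rintro (h | h)
      · rwa [show χ = Blocks.triv K from Subtype.ext h]
      · exact Finset.mem_of_mem_erase ((hm χ).1 h)
  have hv : ∀ χ ∈ B.erase (Blocks.triv K), (a χ = 1 ∨ a χ = -1) ∧ (χ : K → ℂ) J = a χ := fun χ hχ =>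
    ⟨sq_eq_one_iff.1 (hsq χ hχ), (ha χ ((hB χ).1 (Finset.mem_of_mem_erase hχ))).2⟩
  have hdist := And.intro (hne χ₁ m1) (And.intro (hne χ₂ m2) (And.intro (hne χ₃ m3) (And.intro h12 (And.intro h13 h23))))
  have heps := And.intro (hv χ₁ m1).1 (And.intro (hv χ₂ m2).1 (hv χ₃ m3).1)
  have hval := And.intro (hv χ₁ m1).2 (And.intro (hv χ₂ m2).2 (hv χ₃ m3).2)
  obtain ⟨k, x₁, x₂, x₃, hk, ⟨d1, d2, d3⟩, ⟨o1, o2, o3⟩, -, hrel, -, -, -⟩ :=
    Char.klein_data M hM g₀ hg₀ hG hnc P J hJ hJ2 χ₁ χ₂ χ₃ _ _ _ hset hdist heps hval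
  have hord := S4479.result M hM g₀ hg₀ hG hnc P J hJ hJ2 χ₁ χ₂ χ₃ _ _ _ hset hdist heps hval
  have hP4 := Char.card_sylow_four hG hg₀ P
  have hCP : Nat.card (Subgroup.centralizer ((P : Subgroup K) : Set K)) = 4 := by
    refine le_antisymm (hC ▸ Subgroup.card_le_of_le (Subgroup.centralizer_le (Set.singleton_subset_iff.2 hJ))) ?_
    rw [← hP4]
    exact Subgroup.card_le_of_le fun x hx =>
      Subgroup.mem_centralizer_iff.2 fun y hy => Char.sylow_four_comm hG hg₀ P hy hx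
  rw [Blocks.charDegree_eq d1, Blocks.charDegree_eq d2, Blocks.charDegree_eq d3, hC, hCP, hG] at hord
  push_cast at hord
  set e₁ := a χ₁
  set e₂ := a χ₂
  set e₃ := a χ₃
  have hD : ((x₁ : ℚ) + e₁) * ((x₂ : ℚ) + e₂) * ((x₃ : ℚ) + e₃) ≠ 0 := by
    intro h
    rw [h, div_zero, mul_zero, zero_mul, zero_div] at hord
    have : (0 : ℚ) < g₀ := by exact_mod_cast hg₀.pos
    linarith
  have heq : (g₀ : ℤ) * (((x₁ : ℤ) + e₁) * ((x₂ : ℤ) + e₂) * ((x₃ : ℤ) + e₃)) =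
      8 * x₁ * x₂ * x₃ := by
    have : (g₀ : ℚ) * (((x₁ : ℚ) + e₁) * ((x₂ : ℚ) + e₂) * ((x₃ : ℚ) + e₃)) = 8 * x₁ * x₂ * x₃ := by
      generalize ((x₁ : ℚ) + e₁) * ((x₂ : ℚ) + e₂) * ((x₃ : ℚ) + e₃) = D at hord hD ⊢
      have h8 : (g₀ : ℚ) = 8 * ((x₁ : ℚ) * x₂ * x₃ / D) := by linear_combination hord / 4
      rw [h8, mul_assoc, div_mul_cancel₀ _ hD]
      ring
    exact_mod_cast this
  have hfac : ∀ (x : ℕ) (e : ℤ), Odd x → (e = 1 ∨ e = -1) → (x : ℤ) + e ≠ 0 → 2 * (x : ℤ) ≤ 3 * (x + e) := by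
    intro x e hx he h0
    obtain ⟨i, rfl⟩ := hx
    rcases he with rfl | rfl <;> push_cast at h0 ⊢ <;> omega
  obtain ⟨he1, he2, he3⟩ := heps
  have hDZ : ((x₁ : ℤ) + e₁) * ((x₂ : ℤ) + e₂) * ((x₃ : ℤ) + e₃) ≠ 0 := by
    intro h; apply hD; exact_mod_cast h
  obtain ⟨⟨n1, n2⟩, n3⟩ := (show ((x₁ : ℤ) + e₁ ≠ 0 ∧ (x₂ : ℤ) + e₂ ≠ 0) ∧ (x₃ : ℤ) + e₃ ≠ 0 from
    ⟨mul_ne_zero_iff.1 (mul_ne_zero_iff.1 hDZ).1, (mul_ne_zero_iff.1 hDZ).2⟩)
  have f1 := hfac x₁ e₁ o1 he1 n1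
  have f2 := hfac x₂ e₂ o2 he2 n2
  have f3 := hfac x₃ e₃ o3 he3 n3
  have p1 : (0 : ℤ) < x₁ := by exact_mod_cast o1.pos
  have p2 : (0 : ℤ) < x₂ := by exact_mod_cast o2.pos
  have p3 : (0 : ℤ) < x₃ := by exact_mod_cast o3.pos
  have hg27 : (g₀ : ℤ) ≤ 27 := by
    have h1 : (2 * (x₁ : ℤ)) * (2 * x₂) * (2 * x₃) ≤
        (3 * ((x₁ : ℤ) + e₁)) * (3 * (x₂ + e₂)) * (3 * (x₃ + e₃)) := by
      refine mul_le_mul (mul_le_mul f1 f2 (by positivity) (by linarith)) f3 (by positivity) ?_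
      exact mul_nonneg (by linarith) (by linarith)
    have h2 := mul_le_mul_of_nonneg_left h1 (Int.natCast_nonneg g₀)
    have h3 : (g₀ : ℤ) * ((3 * ((x₁ : ℤ) + e₁)) * (3 * (x₂ + e₂)) * (3 * (x₃ + e₃))) =
        27 * (8 * x₁ * x₂ * x₃) := by linear_combination 27 * heq
    have h4 : (0 : ℤ) < x₁ * x₂ * x₃ := by positivity
    nlinarith
  have hsq4 : x₁ * x₁ + x₂ * x₂ + x₃ * x₃ + 1 ≤ 4 * g₀ := by
    rw [← hG]
    have htot := Char.sum_sq_degree (G := K)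
    obtain ⟨d, hd⟩ : ∃ d : IrrCharacter K → ℕ, ∀ χ : IrrCharacter K, (χ : K → ℂ) 1 = d χ :=
      ⟨fun χ => (Char.IsIrr.degree χ.2).choose, fun χ => (Char.IsIrr.degree χ.2).choose_spec.2⟩
    simp only [hd] at htot
    have htot' : ∑ χ : IrrCharacter K, d χ ^ 2 = Nat.card K := by exact_mod_cast htot
    rw [← htot']
    refine le_trans ?_ (Finset.sum_le_sum_of_subset (Finset.subset_univ B))
    rw [← Finset.add_sum_erase _ _ htriv, he, Finset.sum_insert (by simp [h12, h13]),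
      Finset.sum_insert (by simp [h23]), Finset.sum_singleton]
    have e1 : d χ₁ = x₁ := by have := (hd χ₁).symm.trans d1; exact_mod_cast this
    have e2 : d χ₂ = x₂ := by have := (hd χ₂).symm.trans d2; exact_mod_cast this
    have e3 : d χ₃ = x₃ := by have := (hd χ₃).symm.trans d3; exact_mod_cast this
    have e0 : d (Blocks.triv K) = 1 := by
      have h : (1 : ℂ) = d (Blocks.triv K) := hd (Blocks.triv K)
      exact_mod_cast h.symm
    rw [e0, e1, e2, e3]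
    ring_nf
    omega
  have hg27' : g₀ ≤ 27 := by exact_mod_cast hg27
  have hsmall : ∀ x : ℕ, Odd x → x * x ≤ 107 → (x : ℤ) ∈ ([1, 3, 5, 7, 9] : List ℤ) := by
    intro x hx hle
    have hx' : x ≤ 10 := by nlinarith
    obtain ⟨i, rfl⟩ := hx
    have : i ≤ 4 := by omega
    interval_cases i <;> simp
  have hmem : ∀ e : ℤ, e = 1 ∨ e = -1 → e ∈ [(1 : ℤ), -1] := by
    rintro e (rfl | rfl) <;> simp
  have hdiv : 8 * (x₁ : ℤ) * x₂ * x₃ / (((x₁ : ℤ) + e₁) * (x₂ + e₂) * (x₃ + e₃)) = g₀ := by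
    rw [← heq, Int.mul_ediv_cancel _ hDZ]
  have hrel' : (1 : ℤ) + e₁ * x₁ + e₂ * x₂ + e₃ * x₃ = 0 := hrel
  have key := degree_table x₁ (hsmall _ o1 (by omega)) x₂ (hsmall _ o2 (by omega)) x₃
    (hsmall _ o3 (by omega)) e₁ (hmem _ he1) e₂ (hmem _ he2) e₃ (hmem _ he3) hrel'
    (by rw [← heq, Int.mul_emod_left])
  rw [hdiv] at key
  have hodd : (g₀ : ℤ) % 2 = 1 := by
    obtain ⟨i, rfl⟩ := hg₀
    push_cast; omega
  rcases key hodd (by exact_mod_cast hsq4) with h | h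
  · exact Or.inl (by exact_mod_cast h)
  · exact Or.inr (by exact_mod_cast h)

end Cfsg.Agent.Fg24.InvolD8
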