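import Mathlib
import Cfsg.Agent.Classical.SmallSimple
import Cfsg.Agent.Classical.A5InPSL
import Cfsg.Agent.Classical.KleinNormalizer

/-!
Recognition of the small groups occurring in the problem of an involution centralizer
which is dihedral of order eight.
-/

set_option autoImplicit false

namespace Cfsg.Agent.Fg24.InvolD8

open Equiv

/-- A group of order `n!` with a core-free subgroup of index `n` is symmetric. -/
theorem equiv_perm_of_index {G : Type*} [Group G] [Finite G] (H : Subgroup G) {n : ℕ}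
    (hi : H.index = n) (hc : Nat.card G = n.factorial) (hcore : H.normalCore = ⊥) :
    Nonempty (G ≃* Perm (Fin n)) := by
  classical
  let e : G ⧸ H ≃ Fin n := Finite.equivFinOfCardEq hi
  let f : G →* Perm (Fin n) := (e.permCongrHom.toMonoidHom).comp (MulAction.toPermHom G (G ⧸ H))
  have hf : Function.Injective f := by
    refine e.permCongrHom.injective.comp ((MonoidHom.ker_eq_bot_iff _).1 ?_)
    rw [← Subgroup.normalCore_eq_ker, hcore]
  refine ⟨MulEquiv.ofBijective f ((Nat.bijective_iff_injective_and_card f).2 ⟨hf, ?_⟩)⟩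
  rw [hc, Nat.card_eq_fintype_card, Fintype.card_perm, Fintype.card_fin]

/-- A simple group of order 360 with a subgroup action of degree six is alternating. -/
theorem equiv_alt_of_action {G : Type*} [Group G] [Finite G] [IsSimpleGroup G]
    (h : Nat.card G = 360) {α : Type*} [MulAction G α] [MulAction.IsPretransitive G α] [Finite α]
    (hα : Nat.card α = 6) : Nonempty (G ≃* alternatingGroup (Fin 6)) := by
  classical
  have hab : ∃ a b : G, a * b ≠ b * a := by
    have : Fact (Nat.Prime 5) := ⟨Nat.prime_five⟩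
    let P : Sylow 5 G := default
    refine Classical.Small.exists_noncomm P (by rw [h]; norm_num) ?_
    rw [(Classical.Small.sylow_card_eq P (m := 72) (by rw [h]) (by norm_num)).1, h]
    norm_num
  let e : α ≃ Fin 6 := Finite.equivFinOfCardEq hα
  let f : G →* Perm (Fin 6) := (e.permCongrHom.toMonoidHom).comp (MulAction.toPermHom G α)
  have hne : f ≠ 1 := fun h1 => by
    have hn : Nontrivial α := Finite.one_lt_card_iff_nontrivial.1 (by omega)
    obtain ⟨a, b, hne⟩ := exists_pair_ne α
    obtain ⟨g, hg⟩ := MulAction.exists_smul_eq G a b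
    have h2 : f g = 1 := by rw [h1, MonoidHom.one_apply]
    have h3 : MulAction.toPermHom G α g = 1 := e.permCongrHom.injective (by rw [map_one]; exact h2)
    exact hne (by rw [← hg]; exact (DFunLike.congr_fun h3 a).symm)
  obtain ⟨hinj, hle⟩ := Classical.Small.perm_rep hab f hne
  let f' : G →* alternatingGroup (Fin 6) := f.codRestrict _ (fun g => hle ⟨g, rfl⟩)
  refine ⟨MulEquiv.ofBijective f' ((Nat.bijective_iff_injective_and_card f').2
    ⟨fun a b hab => hinj (congrArg Subtype.val hab), ?_⟩)⟩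
  rw [h, nat_card_alternatingGroup, Nat.card_fin]
  rfl

/-- The image of SL(2,5) from icosahedral generators has order 60. -/
theorem exists_sixty {G : Type*} [Group G] {x y : G} (hx : x ^ 3 = 1) (hy : y ^ 5 = 1)
    (hxy : (x * y) ^ 2 = 1) (hne : y ≠ 1) : ∃ H : Subgroup G, Nat.card H = 60 := by
  classical
  haveI : Fact (Nat.Prime 5) := ⟨Nat.prime_five⟩
  obtain ⟨φ, -, hφy, hφ⟩ := Classical.A5InPSL.exists_hom hx hy hxy
  have hcen : Subgroup.center (Matrix.SpecialLinearGroup (Fin 2) (ZMod 5)) ≤ φ.ker := by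
    intro c hc
    obtain ⟨r, hr, hc'⟩ := Matrix.SpecialLinearGroup.mem_center_iff.1 hc
    have hr' : r = 1 ∨ r = -1 := by
      rw [Fintype.card_fin, sq] at hr
      exact mul_self_eq_one_iff.1 hr
    rcases hr' with rfl | rfl
    · have : c = 1 := Subtype.ext (by simpa using hc'.symm)
      rw [this]; exact one_mem _
    · have : c = -1 := Subtype.ext (by
        rw [Matrix.SpecialLinearGroup.coe_neg, Matrix.SpecialLinearGroup.coe_one, ← hc', map_neg, map_one])
      rw [this]; exact hφ
  have h4 : Fintype.card (ZMod 5) = 4 ∨ Fintype.card (ZMod 5) = 5 := Or.inr (ZMod.card 5)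
  obtain ⟨e⟩ := Classical.Small.psl_two_sixty h4
  have : IsSimpleGroup (Matrix.ProjectiveSpecialLinearGroup (Fin 2) (ZMod 5)) :=
    Classical.isSimpleGroup_psl (Or.inr ⟨by simp, Classical.Small.exists_sq_ne_one (by rw [ZMod.card]; norm_num)⟩)
  let ψ : Matrix.ProjectiveSpecialLinearGroup (Fin 2) (ZMod 5) →* G := QuotientGroup.lift _ φ hcen
  have hinj : Function.Injective ψ := by
    rcases IsSimpleGroup.eq_bot_or_eq_top_of_normal ψ.ker inferInstance with h | h
    · exact (ψ.ker_eq_bot_iff).1 h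
    · refine absurd ?_ hne
      have h2 : ψ (QuotientGroup.mk Classical.A5InPSL.y₁) = 1 := by
        rw [ψ.ker_eq_top_iff.1 h, MonoidHom.one_apply]
      rw [← hφy]
      exact h2
  refine ⟨ψ.range, ?_⟩
  rw [← Nat.card_congr (MonoidHom.ofInjective hinj).toEquiv, Nat.card_congr e.toEquiv,
    nat_card_alternatingGroup, Nat.card_fin]
  rfl

section A6

variable {G : Type*} [Group G]

theorem triangle_three {a b : G} (ha : a * a = 1) (hb : b ^ 3 = 1) (hab : (a * b) ^ 3 = 1) :
    a * (b * a * b⁻¹) = b * a * b⁻¹ * a := by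
  have ha' : a⁻¹ = a := inv_eq_of_mul_eq_one_right ha
  have hb2 : b * b = b⁻¹ := by
    refine eq_inv_of_mul_eq_one_left ?_
    rw [← sq, ← pow_succ, hb]
  have e : (a * b) * (a * b) * (a * b) = 1 := by
    rw [← hab]; simp only [pow_succ, pow_zero, one_mul]
  have e1 : a * b * a = b⁻¹ * a * b⁻¹ := by
    have := eq_inv_of_mul_eq_one_left (a := a * b * a) (b := b * a * b) (by rw [← e]; group)
    rw [this, mul_inv_rev, mul_inv_rev, ha', mul_assoc]
  have e2 : b * a * b⁻¹ * a = b * (a * b⁻¹ * a) := by group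
  have e3 : a * b⁻¹ * a = b * a * b := by
    have := congrArg (·⁻¹) e1
    simp only [mul_inv_rev, inv_inv, ha'] at this
    rw [mul_assoc, this, mul_assoc]
  calc a * (b * a * b⁻¹) = (a * b * a) * b⁻¹ := by group
    _ = b⁻¹ * a * b⁻¹ * b⁻¹ := by rw [e1]
    _ = b⁻¹ * a * (b⁻¹ * b⁻¹) := by group
    _ = b⁻¹ * a * b := by rw [← mul_inv_rev, hb2, inv_inv]
    _ = (b * b) * a * b := by rw [hb2]
    _ = b * (a * b⁻¹ * a) := by rw [e3]; group
    _ = b * a * b⁻¹ * a := e2.symm

/-- In the (2,3,4) situation `(ab)²` commutes with its conjugate by `a`. -/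
theorem triangle_four {a b : G} (ha : a * a = 1) (hb : b ^ 3 = 1) (hab : (a * b) ^ 4 = 1) :
    (a * b) * (a * b) * (b * a * (b * a)) = (b * a * (b * a)) * ((a * b) * (a * b)) := by
  have ha' : a⁻¹ = a := inv_eq_of_mul_eq_one_right ha
  have hb2 : b * b = b⁻¹ := by
    refine eq_inv_of_mul_eq_one_left ?_
    rw [← sq, ← pow_succ, hb]
  have e : (a * b) * (a * b) * (a * b) * (a * b) = 1 := by
    rw [← hab]; simp only [pow_succ, pow_zero, one_mul]
  have e1 : a * b * a = b⁻¹ * a * b⁻¹ * a * b⁻¹ := by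
    have := eq_inv_of_mul_eq_one_left (a := a * b * a) (b := b * a * b * a * b) (by rw [← e]; group)
    rw [this, mul_inv_rev, mul_inv_rev, mul_inv_rev, mul_inv_rev, ha']
    group
  have f1 : (a * b) * (a * b) * (b * a * (b * a)) = b⁻¹ * a * b * a * b⁻¹ :=
    calc (a * b) * (a * b) * (b * a * (b * a)) = (a * b * a) * (b * b) * (a * b * a) := by group
      _ = (b⁻¹ * a * b⁻¹ * a * b⁻¹) * b⁻¹ * (b⁻¹ * a * b⁻¹ * a * b⁻¹) := by rw [hb2, e1]
      _ = b⁻¹ * a * b⁻¹ * a * (b ^ 3)⁻¹ * a * b⁻¹ * a * b⁻¹ := by group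
      _ = b⁻¹ * a * b⁻¹ * (a * a) * b⁻¹ * a * b⁻¹ := by rw [hb]; group
      _ = b⁻¹ * a * (b⁻¹ * b⁻¹) * a * b⁻¹ := by rw [ha]; group
      _ = b⁻¹ * a * b * a * b⁻¹ := by rw [← mul_inv_rev, hb2, inv_inv]
  have f2 : (b * a * (b * a)) * ((a * b) * (a * b)) = b * a * b⁻¹ * a * b :=
    calc (b * a * (b * a)) * ((a * b) * (a * b)) = b * a * b * (a * a) * b * a * b := by group
      _ = b * a * (b * b) * a * b := by rw [ha]; group
      _ = b * a * b⁻¹ * a * b := by rw [hb2]
  rw [f1, f2]
  have f3 : (b⁻¹ * a * b * a * b⁻¹) * (b⁻¹ * a * b * a * b⁻¹) = 1 :=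
    calc (b⁻¹ * a * b * a * b⁻¹) * (b⁻¹ * a * b * a * b⁻¹)
          = b⁻¹ * a * b * a * (b⁻¹ * b⁻¹) * a * b * a * b⁻¹ := by group
      _ = b⁻¹ * a * b * a * b * a * b * a * b⁻¹ := by rw [← mul_inv_rev, hb2, inv_inv]
      _ = b⁻¹ * ((a * b) * (a * b) * (a * b) * (a * b)) * (b⁻¹ * b⁻¹) := by group
      _ = b⁻¹ * b := by rw [e, ← mul_inv_rev, hb2, inv_inv, mul_one]
      _ = 1 := inv_mul_cancel b
  rw [eq_inv_of_mul_eq_one_left f3]
  simp only [mul_inv_rev, inv_inv, ha', mul_assoc]

variable [Finite G]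

/-- The Klein four-group which an involution and an element of order three share. -/
theorem exists_klein_of_pair {a b : G} (hC : ∀ t g : G, orderOf t = 2 → orderOf g = 3 → t * g ≠ g * t)
    (ha : orderOf a = 2) (hb : orderOf b = 3) (hab : orderOf (a * b) = 3 ∨ orderOf (a * b) = 4) :
    ∃ V : Subgroup G, IsKleinFour V ∧ b ∈ Subgroup.normalizer (V : Set G) ∧
      ∃ u ∈ V, u ≠ 1 ∧ a * u = u * a := by
  classical
  have haa : a * a = 1 := by rw [← sq, ← ha, pow_orderOf_eq_one]
  have ha' : a⁻¹ = a := inv_eq_of_mul_eq_one_right haa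
  have hb3 : b ^ 3 = 1 := by rw [← hb, pow_orderOf_eq_one]
  -- a commuting pair of involutions permuted cyclically by `b`
  have key : ∀ z : G, orderOf z = 2 → z * (b * z * b⁻¹) = b * z * b⁻¹ * z →
      ∃ V : Subgroup G, IsKleinFour V ∧ b ∈ Subgroup.normalizer (V : Set G) ∧ z ∈ V ∧
        b * z * b⁻¹ ∈ V ∧ z ≠ b * z * b⁻¹ := by
    intro z hz hc
    set w := b * z * b⁻¹ with hw
    have hzz : z * z = 1 := by rw [← sq, ← hz, pow_orderOf_eq_one]
    have hz1 : z ≠ 1 := fun h => by rw [h, orderOf_one] at hz; omega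
    have hww : w * w = 1 := by rw [hw, ← MulAut.conj_apply, ← map_mul, hzz, map_one]
    have hw1 : w ≠ 1 := fun h => hz1 (by rwa [hw, conj_eq_one_iff] at h)
    have hne : z ≠ w := fun h => hC z b hz hb (by
      rw [hw, eq_mul_inv_iff_mul_eq] at h
      exact h)
    let V := Classical.KleinN.ofPair z w hzz hww hc
    have hV : IsKleinFour V := Classical.KleinN.isKleinFour_ofPair hzz hww hc hz1 hw1 hne
    refine ⟨V, hV, ?_, Or.inr (Or.inl rfl), Or.inr (Or.inr (Or.inl rfl)), hne⟩
    set u := b * w * b⁻¹ with hu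
    have hbu : b * u * b⁻¹ = z := by
      rw [hu, hw]
      calc b * (b * (b * z * b⁻¹) * b⁻¹) * b⁻¹ = (b * b * b) * z * (b * b * b)⁻¹ := by group
        _ = z := by rw [show b * b * b = b ^ 3 by simp only [pow_succ, pow_zero, one_mul], hb3]; group
    have huu : u * u = 1 := by rw [hu, ← MulAut.conj_apply, ← map_mul, hww, map_one]
    -- the third conjugate commutes with `z` and is the product
    have huw : u * w = w * u := by
      have h1 := congrArg (MulAut.conj b) hc
      simp only [map_mul] at h1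
      exact h1.symm
    have huz : u * z = z * u := by
      have h1 := congrArg (MulAut.conj b) huw
      simp only [map_mul, MulAut.conj_apply, hbu] at h1
      exact h1.symm
    have hzwu : u = z * w := by
      by_contra hne'
      have hfix : b * (z * w * u) * b⁻¹ = z * w * u := by
        rw [show b * (z * w * u) * b⁻¹ = (b * z * b⁻¹) * (b * w * b⁻¹) * (b * u * b⁻¹) by group, hbu,
          ← hw, ← hu, mul_assoc w u z, huz, ← mul_assoc, hc]
      set s := z * w * u with hs
      have hs2 : s * s = 1 := by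
        rw [hs]
        have hcu : Commute (z * w) u := (Commute.mul_left huz.symm huw.symm)
        rw [← sq, hcu.mul_pow, (show Commute z w from hc).mul_pow, sq, sq, sq, hzz, hww, huu, one_mul,
          one_mul]
      have hs1 : s ≠ 1 := fun h => hne' (by
        rw [hs, mul_eq_one_iff_eq_inv] at h
        rw [h, inv_eq_of_mul_eq_one_right huu])
      exact hC s b (orderOf_eq_prime (by rw [sq]; exact hs2) hs1) hb
        (by rw [eq_comm, ← mul_inv_eq_iff_eq_mul]; exact hfix)
    have hsub : ∀ v ∈ V, b * v * b⁻¹ ∈ V := by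
      rintro v (rfl | rfl | rfl | rfl)
      · exact Or.inl (by group)
      · exact Or.inr (Or.inr (Or.inl rfl))
      · exact Or.inr (Or.inr (Or.inr hzwu))
      · rw [← hzwu, hbu]; exact Or.inr (Or.inl rfl)
    refine Subgroup.mem_normalizer_iff_map_conj_eq.2 (Subgroup.eq_of_le_of_card_ge ?_ ?_)
    · rintro x ⟨v, hv, rfl⟩
      exact hsub v hv
    · exact le_of_eq (Subgroup.card_map_of_injective (MulEquiv.injective _)).symm
  rcases hab with hab | hab
  · obtain ⟨V, hV, hbV, hz, -, -⟩ := key a ha (triangle_three haa hb3 (by rw [← hab, pow_orderOf_eq_one]))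
    exact ⟨V, hV, hbV, a, hz, fun h => by rw [h, orderOf_one] at ha; omega, rfl⟩
  · set z := (a * b) * (a * b) with hz
    have hzo : orderOf z = 2 := by
      refine orderOf_eq_prime ?_ ?_
      · rw [hz, sq, show a * b * (a * b) * (a * b * (a * b)) = (a * b) ^ 4 by
          simp only [pow_succ, pow_zero, one_mul, mul_assoc], ← hab,
          pow_orderOf_eq_one]
      · rw [hz, ← sq]
        exact pow_ne_one_of_lt_orderOf two_ne_zero (by omega)
    have hw : b * z * b⁻¹ = b * a * (b * a) := by rw [hz]; group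
    have hawa : a * z * a = b * a * (b * a) := by
      rw [hz, show a * (a * b * (a * b)) * a = (a * a) * b * a * b * a by group, haa]
      group
    have hcm := triangle_four haa hb3 (by rw [← hab, pow_orderOf_eq_one])
    rw [← hz, ← hw] at hcm
    obtain ⟨V, hV, hbV, hzV, hwV, hne⟩ := key z hzo hcm
    refine ⟨V, hV, hbV, z * (b * z * b⁻¹), mul_mem hzV hwV, fun h => hne ?_, ?_⟩
    · have hzz : z * z = 1 := by rw [← sq, ← hzo, pow_orderOf_eq_one]
      exact mul_left_cancel (hzz.trans h.symm)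
    · rw [← hw] at hawa
      set w := b * z * b⁻¹ with hw'
      have e1 : a * z = w * a := by
        rw [← hawa, mul_assoc (a * z) a a, haa, mul_one]
      have e2 : a * w = z * a := by
        rw [← hawa, ← mul_assoc, ← mul_assoc, haa, one_mul]
      rw [← mul_assoc, e1, mul_assoc, e2, ← mul_assoc, ← hcm]

/-- In a group with the local structure of `A₆` an involution and an element of order three
generate an icosahedral group. -/
theorem exists_pair_five {n3 : ℕ}
    (hn3 : Nat.card {g : G // orderOf g = 3} = n3) (hbig : 60 < n3)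
    (hi45 : Nat.card {t : G // orderOf t = 2} = 45)
    (hC3 : ∀ g : G, orderOf g = 3 → Nat.card (Subgroup.centralizer ({g} : Set G)) ≤ 9)
    (hC : ∀ t g : G, orderOf t = 2 → orderOf g = 3 → t * g ≠ g * t)
    (h5 : ∀ t : G, orderOf t = 2 → Nat.card {a : G // orderOf a = 2 ∧ a * t = t * a} ≤ 5)
    (hK : ∀ t : G, orderOf t = 2 → Nat.card {V : Subgroup G // IsKleinFour V ∧ t ∈ V} ≤ 2)
    (hCV : ∀ V : Subgroup G, IsKleinFour V → Subgroup.centralizer (V : Set G) ≤ V)
    (hord : ∀ g : G, orderOf g ∈ ({1, 2, 3, 4, 5} : Finset ℕ)) :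
    ∃ a b : G, orderOf a = 2 ∧ orderOf b = 3 ∧ orderOf (a * b) = 5 := by
  classical
  cases nonempty_fintype G
  by_contra hno
  push Not at hno
  let Inv : Finset G := Finset.univ.filter fun t => orderOf t = 2
  let Th : Finset G := Finset.univ.filter fun g => orderOf g = 3
  let Kl : Finset (Subgroup G) := Finset.univ.filter fun V => IsKleinFour V
  have hTh : Th.card = n3 := by
    rw [← hn3, Nat.card_eq_fintype_card, Fintype.card_subtype]
  have hInv : Inv.card = 45 := by
    rw [← hi45, Nat.card_eq_fintype_card, Fintype.card_subtype]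
  -- the inverting pairs
  have hinv : ∀ b ∈ Th, (Inv.filter fun a => a * b * a = b⁻¹).card ≤ 9 := by
    intro b hb
    have hb3 := (Finset.mem_filter.1 hb).2
    rcases (Inv.filter fun a => a * b * a = b⁻¹).eq_empty_or_nonempty with h | ⟨a₀, ha₀⟩
    · rw [h]; norm_num
    refine le_trans ?_ (hC3 b hb3)
    rw [Nat.card_eq_fintype_card]
    have hco : (Finset.univ.filter fun c => c ∈ Subgroup.centralizer ({b} : Set G)).card =
        Fintype.card (Subgroup.centralizer ({b} : Set G)) :=
      (Fintype.card_of_subtype _ (by simp)).symm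
    rw [← hco]
    refine Finset.card_le_card_of_injOn (fun a => a * a₀) (fun a ha => ?_) ?_
    · simp only [Finset.coe_filter, Set.mem_setOf_eq, Inv, Finset.mem_filter, Finset.mem_univ,
        true_and] at ha ha₀ ⊢
      rw [Subgroup.mem_centralizer_singleton_iff]
      have haa : a * a = 1 := by rw [← sq, ← ha.1, pow_orderOf_eq_one]
      have h00 : a₀ * a₀ = 1 := by rw [← sq, ← ha₀.1, pow_orderOf_eq_one]
      have e1 : a₀ * b = b⁻¹ * a₀ := by
        rw [← ha₀.2, mul_assoc (a₀ * b), h00, mul_one]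
      have e2 : a * b⁻¹ = b * a := by
        rw [← ha.2, ← mul_assoc, ← mul_assoc, haa, one_mul]
      rw [mul_assoc, e1, ← mul_assoc, e2, mul_assoc]
    · exact fun x _ y _ h => mul_right_cancel h
  -- the pairs attached to a four-group
  let A : Subgroup G → Finset G := fun V => Inv.filter fun a => ∃ u ∈ V, u ≠ 1 ∧ a * u = u * a
  let B : Subgroup G → Finset G := fun V => Th.filter fun b => b ∈ Subgroup.normalizer (V : Set G)
  have hA : ∀ V ∈ Kl, (A V).card ≤ 9 := by
    intro V hV
    have hVK : IsKleinFour V := (Finset.mem_filter.1 hV).2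
    let V' : Finset G := Finset.univ.filter fun u => u ∈ V ∧ u ≠ 1
    have hV' : V'.card = 3 := by
      have h4 := hVK.card_four
      rw [Nat.card_eq_fintype_card] at h4
      have : (Finset.univ.filter fun u : G => u ∈ V).card = 4 := by
        rw [← h4]; exact (Fintype.card_of_subtype _ (by simp)).symm
      have he : V' = (Finset.univ.filter fun u : G => u ∈ V).erase 1 := by
        ext u; simp [V', and_comm]
      rw [he, Finset.card_erase_of_mem (by simp [one_mem]), this]
    have hVinv : ∀ u ∈ V', orderOf u = 2 := fun u hu => by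
      obtain ⟨huV, hu1⟩ := (Finset.mem_filter.1 hu).2
      exact orderOf_eq_prime (by
        rw [sq]
        exact congrArg Subtype.val (IsKleinFour.mul_self (⟨u, huV⟩ : V))) hu1
    have hsub : A V ⊆ V' ∪ V'.biUnion fun u =>
        (Finset.univ.filter fun a => orderOf a = 2 ∧ a * u = u * a) \ V' := by
      intro a ha
      simp only [A, Inv, Finset.mem_filter, Finset.mem_univ, true_and] at ha
      obtain ⟨ha2, u, huV, hu1, hau⟩ := ha
      by_cases haV : a ∈ V'
      · exact Finset.mem_union_left _ haV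
      · refine Finset.mem_union_right _ (Finset.mem_biUnion.2 ⟨u, by simp [V', huV, hu1], ?_⟩)
        simp [haV, ha2, hau]
    refine (Finset.card_le_card hsub).trans ((Finset.card_union_le _ _).trans ?_)
    refine (Nat.add_le_add_left (Finset.card_biUnion_le.trans
      (Finset.sum_le_card_nsmul _ _ 2 fun u hu => ?_)) _).trans (by rw [hV']; norm_num)
    have hsubV : V' ⊆ Finset.univ.filter fun a => orderOf a = 2 ∧ a * u = u * a := by
      intro v hv
      refine Finset.mem_filter.2 ⟨Finset.mem_univ _, hVinv v hv, ?_⟩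
      exact congrArg Subtype.val (mul_comm_of_exponent_two hVK.exponent_two
        (⟨v, (Finset.mem_filter.1 hv).2.1⟩ : V) ⟨u, (Finset.mem_filter.1 hu).2.1⟩)
    have h := h5 u (hVinv u hu)
    rw [Nat.card_eq_fintype_card, Fintype.card_subtype] at h
    rw [Finset.card_sdiff_of_subset hsubV, hV']
    omega
  have hB : ∀ V ∈ Kl, (B V).card ≤ 8 := by
    intro V hV
    have hVK : IsKleinFour V := (Finset.mem_filter.1 hV).2
    obtain ⟨u₀, u₁, hu0V, hu1V, hu0, hu1, hne⟩ : ∃ x y : G, x ∈ V ∧ y ∈ V ∧ x ≠ 1 ∧ y ≠ 1 ∧ x ≠ y := by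
      obtain ⟨x, y, z, hxy, hxz, hyz, h⟩ := Finset.card_eq_three.1
        (show (Finset.univ.filter fun u : V => u ≠ 1).card = 3 by
          rw [Finset.filter_ne' Finset.univ (1 : V), Finset.card_erase_of_mem (Finset.mem_univ _),
            Finset.card_univ, ← Nat.card_eq_fintype_card, hVK.card_four])
      have hx : x ∈ (Finset.univ.filter fun u : V => u ≠ 1) := by rw [h]; simp
      have hy : y ∈ (Finset.univ.filter fun u : V => u ≠ 1) := by rw [h]; simp
      exact ⟨x, y, x.2, y.2, fun e => (Finset.mem_filter.1 hx).2 (Subtype.ext e),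
        fun e => (Finset.mem_filter.1 hy).2 (Subtype.ext e), fun e => hxy (Subtype.ext e)⟩
    have hsq : ∀ u ∈ V, u * u = 1 := fun u hu =>
      congrArg Subtype.val (IsKleinFour.mul_self (⟨u, hu⟩ : V))
    have ho : ∀ u ∈ V, u ≠ 1 → orderOf u = 2 := fun u hu h1 =>
      orderOf_eq_prime (by rw [sq]; exact hsq u hu) h1
    have h4 : ∀ u ∈ V, u = 1 ∨ u = u₀ ∨ u = u₁ ∨ u = u₀ * u₁ := by
      intro u hu
      have he : V = Classical.KleinN.ofPair u₀ u₁ (hsq u₀ hu0V) (hsq u₁ hu1V)
          (congrArg Subtype.val (mul_comm_of_exponent_two hVK.exponent_two (⟨_, hu0V⟩ : V) ⟨_, hu1V⟩)) := by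
        refine (Subgroup.eq_of_le_of_card_ge ?_ ?_).symm
        · rintro x (rfl | rfl | rfl | rfl)
          exacts [one_mem _, hu0V, hu1V, mul_mem hu0V hu1V]
        · rw [hVK.card_four, (Classical.KleinN.isKleinFour_ofPair _ _ _ hu0 hu1 hne).card_four]
      rw [he] at hu
      exact hu
    have hmove : ∀ b ∈ B V, b * u₀ * b⁻¹ ∈ ({u₁, u₀ * u₁} : Finset G) ∧
        (b * u₀ * b⁻¹ = u₁ → b * u₁ * b⁻¹ = u₀ * u₁) ∧
        (b * u₀ * b⁻¹ = u₀ * u₁ → b * u₁ * b⁻¹ = u₀) := by
      intro b hb
      simp only [B, Th, Finset.mem_filter, Finset.mem_univ, true_and] at hb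
      obtain ⟨hb3, hbN⟩ := hb
      have hnf : ∀ u ∈ V, u ≠ 1 → b * u * b⁻¹ ≠ u := fun u hu h1 h =>
        hC u b (ho u hu h1) hb3 (by rw [mul_inv_eq_iff_eq_mul] at h; exact h.symm)
      have hne1 : ∀ u : G, u ≠ 1 → b * u * b⁻¹ ≠ 1 := fun u h h' => h (conj_eq_one_iff.1 h')
      have hm : ∀ u ∈ V, b * u * b⁻¹ ∈ V := fun u hu => (Subgroup.mem_normalizer_iff.1 hbN u).1 hu
      have hinj : ∀ u v : G, b * u * b⁻¹ = b * v * b⁻¹ → u = v := fun u v h =>
        mul_left_cancel (mul_right_cancel h)
      have hp : u₀ * u₁ ≠ 1 := fun h => hne (by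
        rw [mul_eq_one_iff_eq_inv, inv_eq_of_mul_eq_one_right (hsq u₁ hu1V)] at h; exact h)
      rcases h4 _ (hm u₀ hu0V) with h | h | h | h
      · exact absurd h (hne1 _ hu0)
      · exact absurd h (hnf _ hu0V hu0)
      · refine ⟨by simp [h], fun _ => ?_, fun h' => absurd (h.symm.trans h') ?_⟩
        · rcases h4 _ (hm u₁ hu1V) with k | k | k | k
          · exact absurd k (hne1 _ hu1)
          · exfalso
            refine hnf (u₀ * u₁) (mul_mem hu0V hu1V) hp ?_
            rw [← conj_mul, h, k]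
            exact congrArg Subtype.val (mul_comm_of_exponent_two hVK.exponent_two
              (⟨_, hu1V⟩ : V) ⟨_, hu0V⟩)
          · exact absurd k (hnf _ hu1V hu1)
          · exact k
        · exact fun e => hu0 (by rw [right_eq_mul] at e; exact e)
      · refine ⟨by simp [h], fun h' => absurd (h'.symm.trans h) ?_, fun _ => ?_⟩
        · exact fun e => hu0 (by rw [right_eq_mul] at e; exact e)
        · rcases h4 _ (hm u₁ hu1V) with k | k | k | k
          · exact absurd k (hne1 _ hu1)
          · exact k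
          · exact absurd k (hnf _ hu1V hu1)
          · exact absurd (hinj u₁ u₀ (k.trans h.symm)) (Ne.symm hne)
    refine (Finset.card_le_mul_card_image (B V) 4 (f := fun b => b * u₀ * b⁻¹) fun w hw => ?_).trans
      (Nat.mul_le_mul_left 4 ((Finset.card_le_card (t := {u₁, u₀ * u₁}) fun w hw => by
        obtain ⟨b, hb, rfl⟩ := Finset.mem_image.1 hw
        exact (hmove b hb).1).trans Finset.card_le_two))
    obtain ⟨b₀, hb₀, rfl⟩ := Finset.mem_image.1 hw
    refine le_trans (Finset.card_le_card_of_injOn (t := Finset.univ.filter fun u : G => u ∈ V)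
      (fun b => b₀⁻¹ * b) (fun b hb => ?_) fun x _ y _ h => mul_left_cancel h) ?_
    · simp only [Finset.coe_filter, Set.mem_setOf_eq, Finset.mem_univ, true_and] at hb ⊢
      obtain ⟨hbB, hbe⟩ := hb
      refine hCV V hVK (Subgroup.mem_centralizer_iff.2 fun v hv => ?_)
      have he : b * u₁ * b⁻¹ = b₀ * u₁ * b₀⁻¹ := by
        obtain ⟨hin, i1, i2⟩ := hmove b hbB
        obtain ⟨-, j1, j2⟩ := hmove b₀ hb₀
        rcases Finset.mem_insert.1 hin with h | h
        · rw [i1 h, j1 (hbe ▸ h)]
        · have h := Finset.mem_singleton.1 h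
          rw [i2 h, j2 (hbe ▸ h)]
      have hc : ∀ u : G, b * u * b⁻¹ = b₀ * u * b₀⁻¹ → u * (b₀⁻¹ * b) = b₀⁻¹ * b * u := by
        intro u hu
        have := congrArg (fun x => b₀⁻¹ * x * b) hu
        simp only [← mul_assoc, inv_mul_cancel_right, inv_mul_cancel, one_mul] at this
        rw [← mul_assoc]
        exact this.symm
      rcases h4 v hv with rfl | rfl | rfl | rfl
      · rw [one_mul, mul_one]
      · exact hc _ hbe
      · exact hc _ he
      · exact hc _ (by rw [← conj_mul, hbe, he, conj_mul])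
    · have h4' := hVK.card_four
      rw [Nat.card_eq_fintype_card] at h4'
      exact le_of_eq ((Fintype.card_of_subtype _ (by simp)).symm.trans h4')
  have hKl : Kl.card ≤ 30 := by
    have h1 : ∑ V ∈ Kl, (Inv.filter fun t => t ∈ V).card = ∑ t ∈ Inv, (Kl.filter fun V => t ∈ V).card := by
      simp only [Finset.card_filter]
      exact Finset.sum_comm
    have h2 : ∑ t ∈ Inv, (Kl.filter fun V => t ∈ V).card ≤ 90 := by
      refine (Finset.sum_le_card_nsmul _ _ 2 fun t ht => ?_).trans (by rw [hInv]; norm_num)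
      have := hK t (Finset.mem_filter.1 ht).2
      rw [Nat.card_eq_fintype_card, Fintype.card_subtype] at this
      rwa [Finset.filter_filter]
    have h3 : Kl.card • 3 ≤ ∑ V ∈ Kl, (Inv.filter fun t => t ∈ V).card := by
      refine Finset.card_nsmul_le_sum _ _ 3 fun V hV => ?_
      have hVK : IsKleinFour V := (Finset.mem_filter.1 hV).2
      have h4 := hVK.card_four
      rw [Nat.card_eq_fintype_card,
        Fintype.card_of_subtype (Finset.univ.filter fun u : G => u ∈ V) (fun x => by simp)] at h4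
      have : (Finset.univ.filter fun u : G => u ∈ V).erase 1 ⊆ Inv.filter fun t => t ∈ V := by
        intro u hu
        simp only [Finset.mem_erase, Finset.mem_filter, Finset.mem_univ, true_and] at hu
        simp only [Inv, Finset.mem_filter, Finset.mem_univ, true_and]
        have hu2 : u * u = 1 := congrArg Subtype.val (IsKleinFour.mul_self (⟨u, hu.2⟩ : V))
        exact ⟨orderOf_eq_prime (by rw [sq]; exact hu2) hu.1, hu.2⟩
      have := Finset.card_le_card this
      rw [Finset.card_erase_of_mem (by simp [one_mem])] at this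
      omega
    rw [smul_eq_mul] at h3
    omega
  -- every pair is of one of the two types
  have hcover : Inv ×ˢ Th ⊆ ((Inv ×ˢ Th).filter fun p => p.1 * p.2 * p.1 = p.2⁻¹) ∪
      Kl.biUnion fun V => A V ×ˢ B V := by
    rintro ⟨a, b⟩ hp
    obtain ⟨ha, hb⟩ := Finset.mem_product.1 hp
    have ha2 := (Finset.mem_filter.1 ha).2
    have hb3 := (Finset.mem_filter.1 hb).2
    have haa : a * a = 1 := by rw [← sq, ← ha2, pow_orderOf_eq_one]
    have ho := hord (a * b)
    simp only [Finset.mem_insert, Finset.mem_singleton] at ho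
    rcases ho with ho | ho | ho | ho | ho
    · exfalso
      rw [orderOf_eq_one_iff, mul_eq_one_iff_eq_inv] at ho
      rw [ho, orderOf_inv, hb3] at ha2
      omega
    · refine Finset.mem_union_left _ (Finset.mem_filter.2 ⟨hp, ?_⟩)
      have h1 : (a * b) * (a * b) = 1 := by rw [← sq, ← ho, pow_orderOf_eq_one]
      show a * b * a = b⁻¹
      exact eq_inv_of_mul_eq_one_left (by rw [← h1]; group)
    · obtain ⟨V, hV, hbV, hu⟩ := exists_klein_of_pair hC ha2 hb3 (Or.inl ho)
      exact Finset.mem_union_right _ (Finset.mem_biUnion.2 ⟨V, by simp [Kl, hV],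
        Finset.mem_product.2 ⟨Finset.mem_filter.2 ⟨ha, hu⟩, Finset.mem_filter.2 ⟨hb, hbV⟩⟩⟩)
    · obtain ⟨V, hV, hbV, hu⟩ := exists_klein_of_pair hC ha2 hb3 (Or.inr ho)
      exact Finset.mem_union_right _ (Finset.mem_biUnion.2 ⟨V, by simp [Kl, hV],
        Finset.mem_product.2 ⟨Finset.mem_filter.2 ⟨ha, hu⟩, Finset.mem_filter.2 ⟨hb, hbV⟩⟩⟩)
    · exact absurd ho (hno a b ha2 hb3)
  have hleft : ((Inv ×ˢ Th).filter fun p => p.1 * p.2 * p.1 = p.2⁻¹).card ≤ 9 * Th.card := by
    refine (Finset.card_le_mul_card_image _ 9 (f := Prod.snd) fun b hb => ?_).trans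
      (Nat.mul_le_mul_left 9 (Finset.card_le_card fun b hb => ?_))
    · obtain ⟨p, hp, rfl⟩ := Finset.mem_image.1 hb
      refine le_trans (Finset.card_le_card_of_injOn Prod.fst (fun q hq => ?_) ?_)
        (hinv _ (Finset.mem_product.1 (Finset.mem_filter.1 hp).1).2)
      · simp only [Finset.coe_filter, Set.mem_setOf_eq, Finset.mem_filter, Finset.mem_product] at hq ⊢
        obtain ⟨⟨⟨hqa, -⟩, hqe⟩, hqb⟩ := hq
        exact ⟨hqa, by rw [← hqb]; exact hqe⟩
      · intro x hx y hy h
        simp only [Finset.coe_filter, Set.mem_setOf_eq] at hx hy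
        exact Prod.ext h (hx.2.trans hy.2.symm)
    · obtain ⟨p, hp, rfl⟩ := Finset.mem_image.1 hb
      exact (Finset.mem_product.1 (Finset.mem_filter.1 hp).1).2
  have hright : (Kl.biUnion fun V => A V ×ˢ B V).card ≤ 2160 := by
    refine Finset.card_biUnion_le.trans ((Finset.sum_le_card_nsmul _ _ 72 fun V hV => ?_).trans ?_)
    · rw [Finset.card_product]
      exact Nat.mul_le_mul (hA V hV) (hB V hV)
    · rw [smul_eq_mul]; omega
  have h := (Finset.card_le_card hcover).trans (Finset.card_union_le _ _)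
  rw [Finset.card_product, hInv, hTh] at h
  rw [hTh] at hleft
  omega

end A6

end Cfsg.Agent.Fg24.InvolD8
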