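import Mathlib
import Cfsg.Agent.Classical.KleinNormalizer

/-!
Local consequences of an involution centralizer which is dihedral of order eight.
-/

set_option autoImplicit false

namespace Cfsg.Agent.Fg24.InvolD8

open DihedralGroup

variable {G : Type*} [Group G]

theorem dih_central : ∀ c : DihedralGroup 4, c * c = 1 → c ≠ 1 → c * sr 0 = sr 0 * c →
    c * r 1 = r 1 * c → c = r 2 := by decide

theorem dih_pow_four : ∀ d : DihedralGroup 4, d ^ 4 = 1 := by decide

theorem dih_card_involution :
    (Finset.univ.filter fun d : DihedralGroup 4 => d * d = 1 ∧ d ≠ 1).card = 5 := by decide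

theorem dih_four : ∀ u d : DihedralGroup 4, u * u = 1 → u ≠ 1 → u ≠ r 2 → d * u = u * d →
    d = 1 ∨ d = u ∨ d = r 2 ∨ d = r 2 * u := by decide

/-- Transport of the centralizer along a conjugacy. -/
theorem exists_equiv_of_isConj {z t : G} {D : Type*} [Group D] (h : IsConj z t)
    (e : Subgroup.centralizer ({z} : Set G) ≃* D) :
    Nonempty (Subgroup.centralizer ({t} : Set G) ≃* D) := by
  obtain ⟨g, rfl⟩ := isConj_iff.1 h
  have hm : (Subgroup.centralizer ({z} : Set G)).map (MulAut.conj g).toMonoidHom =
      Subgroup.centralizer ({g * z * g⁻¹} : Set G) := by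
    ext x
    rw [Subgroup.mem_map]
    constructor
    · rintro ⟨y, hy, rfl⟩
      rw [Subgroup.mem_centralizer_singleton_iff] at hy ⊢
      change MulAut.conj g y * MulAut.conj g z = MulAut.conj g z * MulAut.conj g y
      rw [← map_mul, ← map_mul, hy]
    · intro hx
      refine ⟨g⁻¹ * x * g, ?_, show g * (g⁻¹ * x * g) * g⁻¹ = x by group⟩
      rw [Subgroup.mem_centralizer_singleton_iff] at hx ⊢
      calc g⁻¹ * x * g * z = g⁻¹ * (x * (g * z * g⁻¹)) * g := by group
        _ = g⁻¹ * ((g * z * g⁻¹) * x) * g := by rw [hx]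
        _ = z * (g⁻¹ * x * g) := by group
  exact ⟨(MulEquiv.subgroupCongr hm).symm.trans
    (((Subgroup.centralizer ({z} : Set G)).equivMapOfInjective _ (MulEquiv.injective _)).symm.trans e)⟩

variable {t : G} (e : Subgroup.centralizer ({t} : Set G) ≃* DihedralGroup 4)
include e

theorem card_centralizer : Nat.card (Subgroup.centralizer ({t} : Set G)) = 8 := by
  rw [Nat.card_congr e.toEquiv, DihedralGroup.nat_card]

theorem pow_four_eq_one {g : G} (hg : g * t = t * g) : g ^ 4 = 1 := by
  have hg' : g ∈ Subgroup.centralizer ({t} : Set G) := Subgroup.mem_centralizer_singleton_iff.2 hg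
  have h : (⟨g, hg'⟩ : Subgroup.centralizer ({t} : Set G)) ^ 4 = 1 :=
    e.injective (by rw [map_pow, dih_pow_four, map_one])
  exact congrArg Subtype.val h

theorem no_three {g : G} (hg : orderOf g = 3) : t * g ≠ g * t := fun h => by
  have := orderOf_dvd_of_pow_eq_one (pow_four_eq_one e h.symm)
  rw [hg] at this
  omega

theorem map_self (ht : orderOf t = 2) :
    e ⟨t, Subgroup.mem_centralizer_singleton_iff.2 rfl⟩ = r 2 := by
  have ht1 : t ≠ 1 := fun h => by rw [h, orderOf_one] at ht; omega
  set T : Subgroup.centralizer ({t} : Set G) := ⟨t, Subgroup.mem_centralizer_singleton_iff.2 rfl⟩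
  have hcen : ∀ d, e T * d = d * e T := by
    intro d
    obtain ⟨x, rfl⟩ := e.surjective d
    rw [← map_mul, ← map_mul]
    exact congrArg e (Subtype.ext (Subgroup.mem_centralizer_singleton_iff.1 x.2).symm)
  refine dih_central _ ?_ ?_ (hcen _) (hcen _)
  · rw [← map_mul, ← map_one e]
    refine congrArg e (Subtype.ext ?_)
    show t * t = 1
    rw [← sq, ← ht, pow_orderOf_eq_one]
  · rw [← map_one e, e.injective.ne_iff]
    exact fun h => ht1 (congrArg Subtype.val h)

theorem card_involutions [Finite G] :
    Nat.card {a : G // orderOf a = 2 ∧ a * t = t * a} ≤ 5 := by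
  classical
  have h : Nat.card {d : DihedralGroup 4 // d * d = 1 ∧ d ≠ 1} = 5 := by
    rw [Nat.card_eq_fintype_card, Fintype.card_subtype, dih_card_involution]
  rw [← h]
  refine Nat.card_le_card_of_injective
    (fun a => ⟨e ⟨a.1, Subgroup.mem_centralizer_singleton_iff.2 a.2.2⟩, ?_, ?_⟩) ?_
  · rw [← map_mul, ← map_one e]
    refine congrArg e (Subtype.ext ?_)
    show (a : G) * a = 1
    have h := pow_orderOf_eq_one (a : G)
    rwa [a.2.1, sq] at h
  · rw [← map_one e, e.injective.ne_iff]
    intro h1
    have h2 : (a : G) = 1 := congrArg Subtype.val h1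
    have h3 := a.2.1
    rw [h2, orderOf_one] at h3
    omega
  · intro a b hab
    have h1 := e.injective (congrArg Subtype.val hab)
    exact Subtype.ext (congrArg Subtype.val h1 :)

theorem centralizer_le_self (ht : orderOf t = 2) {V : Subgroup G} (hV : IsKleinFour V) (htV : t ∈ V) :
    Subgroup.centralizer (V : Set G) ≤ V := by
  classical
  intro x hx
  obtain ⟨u, huV, hu1, hut⟩ : ∃ u, u ∈ V ∧ u ≠ 1 ∧ u ≠ t := by
    by_contra! hc
    have hsub : (V : Set G) ⊆ {1, t} := fun u hu => by
      by_cases h1 : u = 1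
      · exact Or.inl h1
      · exact Or.inr (hc u hu h1)
    have h := Set.ncard_le_ncard hsub (Set.toFinite _)
    have h2 := (Set.ncard_insert_le (1 : G) {t}).trans (by rw [Set.ncard_singleton])
    rw [show (V : Set G).ncard = 4 from hV.card_four] at h
    omega
  have hux : x * u = u * x := (Subgroup.mem_centralizer_iff.1 hx u huV).symm
  have htx : x * t = t * x := (Subgroup.mem_centralizer_iff.1 hx t htV).symm
  have hutc : u * t = t * u :=
    congrArg Subtype.val (mul_comm_of_exponent_two hV.exponent_two (⟨u, huV⟩ : V) ⟨t, htV⟩)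
  let T : Subgroup.centralizer ({t} : Set G) := ⟨t, Subgroup.mem_centralizer_singleton_iff.2 rfl⟩
  let X : Subgroup.centralizer ({t} : Set G) := ⟨x, Subgroup.mem_centralizer_singleton_iff.2 htx⟩
  let U : Subgroup.centralizer ({t} : Set G) := ⟨u, Subgroup.mem_centralizer_singleton_iff.2 hutc⟩
  have hT : e T = r 2 := map_self e ht
  have h := dih_four (e U) (e X) ?_ ?_ ?_ ?_
  · rw [← hT, ← map_one e, ← map_mul, e.injective.eq_iff, e.injective.eq_iff, e.injective.eq_iff,
      e.injective.eq_iff] at h
    rcases h with h | h | h | h <;> have h' : x = _ := congrArg Subtype.val h <;> rw [h']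
    exacts [one_mem _, huV, htV, mul_mem htV huV]
  · rw [← map_mul, ← map_one e]
    refine congrArg e (Subtype.ext ?_)
    show u * u = 1
    exact congrArg Subtype.val (IsKleinFour.mul_self (⟨u, huV⟩ : V))
  · rw [← map_one e, e.injective.ne_iff]
    exact fun h => hu1 (congrArg Subtype.val h)
  · rw [← hT, e.injective.ne_iff]
    exact fun h => hut (congrArg Subtype.val h)
  · rw [← map_mul, ← map_mul]
    exact congrArg e (Subtype.ext hux)

theorem card_klein [Finite G] (ht : orderOf t = 2) :
    Nat.card {V : Subgroup G // IsKleinFour V ∧ t ∈ V} ≤ 2 := by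
  classical
  cases nonempty_fintype G
  let K : Finset (Subgroup G) := Finset.univ.filter fun V => IsKleinFour V ∧ t ∈ V
  let I : Finset G := Finset.univ.filter fun a => orderOf a = 2 ∧ a * t = t * a
  have hI : I.card ≤ 5 := by
    have := card_involutions e
    rwa [Nat.card_eq_fintype_card, Fintype.card_subtype] at this
  have ht1 : t ≠ 1 := fun h => by rw [h, orderOf_one] at ht; omega
  have htt : t * t = 1 := by rw [← sq, ← ht, pow_orderOf_eq_one]
  let f : Subgroup G → Finset G := fun V => (I.erase t).filter fun a => a ∈ V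
  have hf : ∀ V ∈ K, 2 ≤ (f V).card := by
    intro V hV
    obtain ⟨hVK, htV⟩ := (Finset.mem_filter.1 hV).2
    have h4 := hVK.card_four
    rw [Nat.card_eq_fintype_card,
      Fintype.card_of_subtype (Finset.univ.filter fun u : G => u ∈ V) (fun x => by simp)] at h4
    have hsub : ((Finset.univ.filter fun u : G => u ∈ V).erase 1).erase t ⊆ f V := by
      intro u hu
      simp only [Finset.mem_erase, Finset.mem_filter, Finset.mem_univ, true_and] at hu
      obtain ⟨hut, hu1, huV⟩ := hu
      have hu2 : u * u = 1 := congrArg Subtype.val (IsKleinFour.mul_self (⟨u, huV⟩ : V))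
      have hutc : u * t = t * u :=
        congrArg Subtype.val (mul_comm_of_exponent_two hVK.exponent_two (⟨u, huV⟩ : V) ⟨t, htV⟩)
      simp only [f, I, Finset.mem_filter, Finset.mem_erase, Finset.mem_univ, true_and]
      exact ⟨⟨hut, orderOf_eq_prime (by rw [sq]; exact hu2) hu1, hutc⟩, huV⟩
    have h := Finset.card_le_card hsub
    rw [Finset.card_erase_of_mem (by simp [htV, ht1]), Finset.card_erase_of_mem (by simp [one_mem])] at h
    omega
  have hdis : (K : Set (Subgroup G)).PairwiseDisjoint f := by
    intro V hV W hW hne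
    rw [Function.onFun, Finset.disjoint_left]
    intro u hu hu'
    simp only [f, I, Finset.mem_filter, Finset.mem_erase, Finset.mem_univ, true_and] at hu hu'
    obtain ⟨⟨hut, hu2, hutc⟩, huV⟩ := hu
    simp only [K, Finset.coe_filter, Set.mem_setOf_eq, Finset.mem_univ, true_and] at hV hW
    have hu1 : u ≠ 1 := fun h => by rw [h, orderOf_one] at hu2; omega
    have huu : u * u = 1 := by rw [← sq, ← hu2, pow_orderOf_eq_one]
    have he : ∀ X : Subgroup G, IsKleinFour X → t ∈ X → u ∈ X →
        Classical.KleinN.ofPair t u htt huu hutc.symm = X := by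
      intro X hX htX huX
      refine Subgroup.eq_of_le_of_card_ge ?_ ?_
      · rintro x (rfl | rfl | rfl | rfl)
        exacts [one_mem _, htX, huX, mul_mem htX huX]
      · rw [hX.card_four,
          (Classical.KleinN.isKleinFour_ofPair htt huu hutc.symm ht1 hu1 (Ne.symm hut)).card_four]
    exact hne ((he V hV.1 hV.2 huV).symm.trans (he W hW.1 hW.2 hu'.2))
  have h1 : (K.biUnion f).card ≤ 4 := by
    refine (Finset.card_le_card (t := I.erase t) fun a ha => ?_).trans ?_
    · obtain ⟨V, -, hV⟩ := Finset.mem_biUnion.1 ha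
      exact (Finset.mem_filter.1 hV).1
    · rw [Finset.card_erase_of_mem (by simp [I, ht])]
      omega
  rw [Finset.card_biUnion hdis] at h1
  have h2 := Finset.card_nsmul_le_sum K (fun V => (f V).card) 2 hf
  rw [smul_eq_mul] at h2
  have : Nat.card {V : Subgroup G // IsKleinFour V ∧ t ∈ V} = K.card := by
    rw [Nat.card_eq_fintype_card, Fintype.card_subtype]
  omega

end Cfsg.Agent.Fg24.InvolD8
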