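import Cfsg.Agent.Fg24.InvolD8.Small
import Cfsg.Agent.Fg24.InvolD8.Local
import Cfsg.Agent.Invol.Count

/-!
A simple group of order 360 with a dihedral involution centralizer is alternating of degree six.
-/

set_option autoImplicit false

namespace Cfsg.Agent.Fg24.InvolD8

open DihedralGroup

variable {G : Type*} [Group G] [Finite G] [IsSimpleGroup G]

theorem equiv_alt_six (h : Nat.card G = 360) (z : G) (hz : orderOf z = 2)
    (e : Subgroup.centralizer ({z} : Set G) ≃* DihedralGroup 4)
    (hconj : ∀ t : G, orderOf t = 2 → IsConj z t) :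
    Nonempty (G ≃* alternatingGroup (Fin 6)) := by
  classical
  have h3f : Fact (Nat.Prime 3) := ⟨Nat.prime_three⟩
  have h5f : Fact (Nat.Prime 5) := ⟨Nat.prime_five⟩
  have he : ∀ t : G, orderOf t = 2 →
      Nonempty (Subgroup.centralizer ({t} : Set G) ≃* DihedralGroup 4) :=
    fun t ht => exists_equiv_of_isConj (hconj t ht) e
  have hC : ∀ t g : G, orderOf t = 2 → orderOf g = 3 → t * g ≠ g * t := fun t g ht hg => by
    obtain ⟨et⟩ := he t ht; exact no_three et hg
  -- Sylow subgroups for 3
  have hP9 : ∀ P : Sylow 3 G, Nat.card (P : Subgroup G) = 9 := by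
    intro P
    rw [P.card_eq_multiplicity, h, show (360 : ℕ) = 3 ^ 2 * 40 by norm_num,
      Nat.factorization_mul (by norm_num) (by norm_num), Finsupp.add_apply,
      Nat.prime_three.factorization_pow, Finsupp.single_eq_same,
      Nat.factorization_eq_zero_of_not_dvd (by norm_num : ¬ 3 ∣ 40)]
    norm_num
  have hPcomm : ∀ (P : Sylow 3 G) (x y : G), x ∈ (P : Subgroup G) → y ∈ (P : Subgroup G) →
      x * y = y * x := by
    intro P x y hx hy
    let : CommGroup (P : Subgroup G) := IsPGroup.commGroupOfCardEqPrimeSq (p := 3)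
      (by rw [hP9 P]; norm_num)
    exact congrArg Subtype.val (mul_comm (⟨x, hx⟩ : (P : Subgroup G)) ⟨y, hy⟩)
  have hab : ∃ a b : G, a * b ≠ b * a := by
    refine Classical.Small.exists_noncomm (default : Sylow 3 G) (by rw [h]; norm_num) ?_
    rw [hP9, h]; norm_num
  -- the Sylow 5 count
  by_cases hn5 : Nat.card (Sylow 5 G) = 6
  · exact equiv_alt_of_action h hn5
  have hn5' : Nat.card (Sylow 5 G) = 36 := by
    let Q : Sylow 5 G := default
    obtain ⟨hQ, hQi⟩ := Classical.Small.sylow_card_eq Q (m := 72) (by rw [h]) (by norm_num)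
    have hdvd : Nat.card (Sylow 5 G) ∣ 72 := hQi ▸ Q.card_dvd_index
    have hmod : Nat.card (Sylow 5 G) % 5 = 1 := card_sylow_modEq_one 5 G
    have hne1 := Classical.Small.sylow_card_ne_one Q (by rw [h]; norm_num) (by rw [hQ, h]; norm_num)
    have hmem : Nat.card (Sylow 5 G) ∈ Nat.divisors 72 := Nat.mem_divisors.2 ⟨hdvd, by norm_num⟩
    have key : ∀ d ∈ Nat.divisors 72, d % 5 = 1 → d = 1 ∨ d = 6 ∨ d = 36 := by decide
    rcases key _ hmem hmod with h' | h' | h'
    exacts [absurd h' hne1, absurd h' hn5, h']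
  -- centralizers of elements of order 3
  have hsub : ∀ g : G, ∀ k : ℕ, orderOf g = 3 ^ k → ∃ P : Sylow 3 G, g ∈ (P : Subgroup G) := by
    intro g k hg
    obtain ⟨P, hP⟩ := (IsPGroup.of_card (p := 3) (n := k)
      (by rw [Nat.card_zpowers, hg]) : IsPGroup 3 (Subgroup.zpowers g)).exists_le_sylow
    exact ⟨P, hP (Subgroup.mem_zpowers g)⟩
  have hPC : ∀ (P : Sylow 3 G) (g : G), g ∈ (P : Subgroup G) →
      (P : Subgroup G) ≤ Subgroup.centralizer ({g} : Set G) := fun P g hg x hx =>
    Subgroup.mem_centralizer_singleton_iff.2 (hPcomm P x g hx hg)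
  have hC3 : ∀ g : G, orderOf g = 3 → Nat.card (Subgroup.centralizer ({g} : Set G)) = 9 := by
    intro g hg
    obtain ⟨P, hgP⟩ := hsub g 1 (by rw [hg, pow_one])
    set c := Nat.card (Subgroup.centralizer ({g} : Set G)) with hc
    have h9 : 9 ∣ c := hP9 P ▸ Subgroup.card_dvd_of_le (hPC P g hgP)
    have h2 : ¬ 2 ∣ c := by
      intro h2
      have : Fact (Nat.Prime 2) := ⟨Nat.prime_two⟩
      obtain ⟨t, ht⟩ := exists_prime_orderOf_dvd_card' 2 h2
      rw [← Subgroup.orderOf_coe] at ht
      exact hC (t : G) g ht hg (Subgroup.mem_centralizer_singleton_iff.1 t.2)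
    have h5 : ¬ 5 ∣ c := by
      intro h5
      obtain ⟨y, hy⟩ := exists_prime_orderOf_dvd_card' 5 h5
      rw [← Subgroup.orderOf_coe] at hy
      have hyg : (y : G) * g = g * y := Subgroup.mem_centralizer_singleton_iff.1 y.2
      obtain ⟨Q, hQ⟩ := (IsPGroup.of_card (p := 5) (n := 1)
        (by rw [Nat.card_zpowers, hy, pow_one]) : IsPGroup 5 (Subgroup.zpowers (y : G))).exists_le_sylow
      obtain ⟨hQc, -⟩ := Classical.Small.sylow_card_eq Q (m := 72) (by rw [h]) (by norm_num)
      have hQe : Subgroup.zpowers (y : G) = (Q : Subgroup G) :=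
        Subgroup.eq_of_le_of_card_ge hQ (by rw [Nat.card_zpowers, hy, hQc])
      have hgN : g ∈ Subgroup.normalizer ((Q : Subgroup G) : Set G) := by
        refine Subgroup.centralizer_le_normalizer (s := ((Q : Subgroup G) : Set G)) ?_
        rw [← hQe, Subgroup.mem_centralizer_iff]
        intro u hu
        obtain ⟨i, rfl⟩ := Subgroup.mem_zpowers_iff.1 hu
        exact (show Commute (y : G) g from hyg).zpow_left i
      have hN : Nat.card (Subgroup.normalizer ((Q : Subgroup G) : Set G)) = 10 := by
        have h1 := (Subgroup.normalizer ((Q : Subgroup G) : Set G)).card_mul_index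
        have h2 : Nat.card (Sylow 5 G) = (Subgroup.normalizer ((Q : Subgroup G) : Set G)).index := Q.card_eq_index_normalizer
        rw [← h2, hn5', h] at h1
        omega
      have := orderOf_dvd_natCard (⟨g, hgN⟩ : Subgroup.normalizer ((Q : Subgroup G) : Set G))
      rw [Subgroup.orderOf_mk, hg, hN] at this
      omega
    have hd : c ∣ 360 := h ▸ Subgroup.card_subgroup_dvd_card _
    have key : ∀ d ∈ Nat.divisors 360, 9 ∣ d → ¬ 2 ∣ d → ¬ 5 ∣ d → d = 9 := by decide
    exact key c (Nat.mem_divisors.2 ⟨hd, by norm_num⟩) h9 h2 h5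
  have hPmax : ∀ (P : Sylow 3 G) (g : G), orderOf g = 3 → g ∈ (P : Subgroup G) →
      (P : Subgroup G) = Subgroup.centralizer ({g} : Set G) := fun P g hg hgP =>
    Subgroup.eq_of_le_of_card_ge (hPC P g hgP) (by rw [hP9, hC3 g hg])
  -- no elements of order 9
  have h9 : ∀ y : G, orderOf y ≠ 9 := by
    intro y hy
    obtain ⟨P, hyP⟩ := hsub y 2 (by rw [hy]; norm_num)
    have hgen : (P : Subgroup G) = Subgroup.zpowers y :=
      (Subgroup.eq_of_le_of_card_ge (Subgroup.zpowers_le.2 hyP) (by rw [Nat.card_zpowers, hy, hP9])).symm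
    have : IsCyclic (P : Subgroup G) := by rw [hgen]; infer_instance
    have hy3 : orderOf (y ^ 3) = 3 := by
      rw [orderOf_pow' y (by norm_num), hy]
      norm_num
    have hcen : Subgroup.centralizer ((P : Subgroup G) : Set G) ≤ (P : Subgroup G) := by
      rw [hPmax P (y ^ 3) hy3 (pow_mem hyP 3)]
      refine Subgroup.centralizer_le ?_
      rw [← hPmax P (y ^ 3) hy3 (pow_mem hyP 3)]
      exact Set.singleton_subset_iff.2 (pow_mem hyP 3)
    have hker : (P : Subgroup G).normalizerMonoidHom.ker =
        (P : Subgroup G).subgroupOf (Subgroup.normalizer ((P : Subgroup G) : Set G)) := by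
      rw [Subgroup.normalizerMonoidHom_ker]
      refine congrArg (fun X : Subgroup G => X.subgroupOf _) (le_antisymm hcen fun x hx => ?_)
      exact Subgroup.mem_centralizer_iff.2 fun v hv => hPcomm P v x hv hx
    have hdvd := Subgroup.card_dvd_of_injective (QuotientGroup.kerLift (P : Subgroup G).normalizerMonoidHom)
      (QuotientGroup.kerLift_injective _)
    rw [IsCyclic.card_mulAut, hP9] at hdvd
    rw [← Subgroup.index_eq_card, hker] at hdvd
    have hN := (Subgroup.normalizer ((P : Subgroup G) : Set G)).card_mul_index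
    have hN2 : Nat.card (Sylow 3 G) = (Subgroup.normalizer ((P : Subgroup G) : Set G)).index := P.card_eq_index_normalizer
    rw [h, ← hN2] at hN
    have hPN : (P : Subgroup G).relIndex (Subgroup.normalizer ((P : Subgroup G) : Set G)) * 9 =
        Nat.card (Subgroup.normalizer ((P : Subgroup G) : Set G)) := by
      rw [← hP9 P, mul_comm, ← Nat.card_congr (Subgroup.subgroupOfEquivOfLe Subgroup.le_normalizer).toEquiv]
      exact Subgroup.card_mul_index _
    have hn3 : Nat.card (Sylow 3 G) % 3 = 1 := card_sylow_modEq_one 3 G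
    change (P : Subgroup G).relIndex _ ∣ _ at hdvd
    rw [show Nat.totient 9 = 6 from rfl] at hdvd
    have hne1 := Classical.Small.sylow_card_ne_one P (by rw [h]; norm_num) (by rw [hP9, h]; norm_num)
    set n := Nat.card (Sylow 3 G)
    set r := (P : Subgroup G).relIndex (Subgroup.normalizer ((P : Subgroup G) : Set G))
    rw [← hPN] at hN
    have hr : r ≤ 6 := Nat.le_of_dvd (by norm_num) hdvd
    obtain ⟨c, hc⟩ := hdvd
    have hr1 : r = 1 := by interval_cases r <;> omega
    have hNP : Subgroup.normalizer ((P : Subgroup G) : Set G) ≤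
        Subgroup.centralizer ((P : Subgroup G) : Set G) := by
      intro x hx
      have hx' : x ∈ (P : Subgroup G) := (Subgroup.relIndex_eq_one.1 hr1) hx
      exact Subgroup.mem_centralizer_iff.2 fun v hv => hPcomm P v x hv hx'
    have hc' := MonoidHom.ker_transferSylow_isComplement' P hNP
    have hK := hc'.card_mul_card
    rw [hP9, h] at hK
    rcases IsSimpleGroup.eq_bot_or_eq_top_of_normal (MonoidHom.transferSylow P hNP).ker
      inferInstance with h' | h' <;> rw [h'] at hK
    · rw [Subgroup.card_bot] at hK; omega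
    · rw [Subgroup.card_top, h] at hK; omega
  -- element orders
  have hord : ∀ g : G, orderOf g ∈ ({1, 2, 3, 4, 5} : Finset ℕ) := by
    intro g
    have hd : orderOf g ∣ 360 := h ▸ orderOf_dvd_natCard g
    have hpos := orderOf_pos g
    rcases Nat.even_or_odd (orderOf g) with ⟨k, hk⟩ | hodd
    · have hx : orderOf (g ^ k) = 2 := by
        rw [orderOf_pow' g (by omega), hk, Nat.gcd_eq_right ⟨2, by ring⟩]
        rw [← two_mul, Nat.mul_div_assoc 2 (dvd_refl k), Nat.div_self (by omega)]
      obtain ⟨ex⟩ := he _ hx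
      have h4 := orderOf_dvd_of_pow_eq_one (pow_four_eq_one ex ((Commute.refl g).pow_right k).eq)
      have : orderOf g ∈ Nat.divisors 4 := Nat.mem_divisors.2 ⟨h4, by norm_num⟩
      rw [show Nat.divisors 4 = {1, 2, 4} from by decide] at this
      simp only [Finset.mem_insert, Finset.mem_singleton] at this ⊢
      omega
    · have hmem : orderOf g ∈ Nat.divisors 360 := Nat.mem_divisors.2 ⟨hd, by norm_num⟩
      have key : ∀ d ∈ Nat.divisors 360, d % 2 = 1 →
          d ∈ ({1, 2, 3, 4, 5} : Finset ℕ) ∨ d = 9 ∨ d = 15 ∨ d = 45 := by decide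
      rcases key _ hmem (Nat.odd_iff.1 hodd) with h' | h' | h' | h'
      · exact h'
      · exact absurd h' (h9 g)
      · exfalso
        have h3 : orderOf (g ^ 5) = 3 := by rw [orderOf_pow' g (by norm_num), h']; norm_num
        have h5 : orderOf (g ^ 3) = 5 := by rw [orderOf_pow' g (by norm_num), h']; norm_num
        have hm : g ^ 3 ∈ Subgroup.centralizer ({g ^ 5} : Set G) :=
          Subgroup.mem_centralizer_singleton_iff.2 ((Commute.refl g).pow_pow 3 5).eq
        have := orderOf_dvd_natCard (⟨g ^ 3, hm⟩ : Subgroup.centralizer ({g ^ 5} : Set G))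
        rw [Subgroup.orderOf_mk, h5, hC3 _ h3] at this
        omega
      · exfalso
        exact h9 (g ^ 5) (by rw [orderOf_pow' g (by norm_num), h']; norm_num)
  -- many elements of order 3
  have hbig : 60 < Nat.card {g : G // orderOf g = 3} := by
    have hn3 : 10 ≤ Nat.card (Sylow 3 G) := by
      let P : Sylow 3 G := default
      have hidx : (P : Subgroup G).index = 40 := by
        have h1 := (P : Subgroup G).card_mul_index
        rw [hP9, h] at h1
        omega
      have hdvd : Nat.card (Sylow 3 G) ∣ 40 := hidx ▸ P.card_dvd_index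
      have hmod : Nat.card (Sylow 3 G) % 3 = 1 := card_sylow_modEq_one 3 G
      have hne1 := Classical.Small.sylow_card_ne_one P (by rw [h]; norm_num) (by rw [hP9, h]; norm_num)
      have hne4 : Nat.card (Sylow 3 G) ≠ 4 := by
        intro h4
        let ev : Sylow 3 G ≃ Fin 4 := Finite.equivFinOfCardEq h4
        let f : G →* Equiv.Perm (Fin 4) :=
          (ev.permCongrHom.toMonoidHom).comp (MulAction.toPermHom G (Sylow 3 G))
        by_cases hf : f = 1
        · have hn : Nontrivial (Sylow 3 G) := Finite.one_lt_card_iff_nontrivial.1 (by omega)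
          obtain ⟨A, B, hne⟩ := exists_pair_ne (Sylow 3 G)
          obtain ⟨g, hg⟩ := MulAction.exists_smul_eq G A B
          have h2 : f g = 1 := by rw [hf, MonoidHom.one_apply]
          have h3 : MulAction.toPermHom G (Sylow 3 G) g = 1 :=
            ev.permCongrHom.injective (by rw [map_one]; exact h2)
          exact hne (by rw [← hg]; exact (DFunLike.congr_fun h3 A).symm)
        · have hd := Subgroup.card_dvd_of_injective f (Classical.Small.perm_rep hab f hf).1
          rw [h, Nat.card_eq_fintype_card, Fintype.card_perm, Fintype.card_fin] at hd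
          exact absurd (Nat.le_of_dvd (by decide) hd) (by decide)
      have key : ∀ d ∈ Nat.divisors 40, d % 3 = 1 → d = 1 ∨ d = 4 ∨ 10 ≤ d := by decide
      rcases key _ (Nat.mem_divisors.2 ⟨hdvd, by norm_num⟩) hmod with h' | h' | h'
      exacts [absurd h' hne1, absurd h' hne4, h']
    have ho : ∀ (P : Sylow 3 G) (x : (P : Subgroup G)), x ≠ 1 → orderOf (x : G) = 3 := by
      intro P x hx
      have hd : orderOf (x : G) ∣ 9 := hP9 P ▸ Subgroup.orderOf_dvd_natCard _ x.2
      have hmem : orderOf (x : G) ∈ Nat.divisors 9 := Nat.mem_divisors.2 ⟨hd, by norm_num⟩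
      rw [show Nat.divisors 9 = {1, 3, 9} from by decide] at hmem
      simp only [Finset.mem_insert, Finset.mem_singleton] at hmem
      rcases hmem with h' | h' | h'
      exacts [absurd (Subtype.ext (orderOf_eq_one_iff.1 h')) hx, h', absurd h' (h9 _)]
    cases nonempty_fintype G
    have hinj := Nat.card_le_card_of_injective
      (fun p : Σ P : Sylow 3 G, {x : (P : Subgroup G) // x ≠ 1} =>
        (⟨((p.2 : (p.1 : Subgroup G)) : G), ho p.1 _ p.2.2⟩ : {g : G // orderOf g = 3})) (by
      rintro ⟨P, x, hx⟩ ⟨Q, y, hy⟩ hxy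
      have e1 : (x : G) = (y : G) := congrArg Subtype.val hxy
      obtain rfl : P = Q := Sylow.ext (by
        rw [hPmax P (x : G) (ho P x hx) x.2, hPmax Q (y : G) (ho Q y hy) y.2, e1])
      obtain rfl : x = y := Subtype.ext e1
      rfl)
    have hfib : ∀ P : Sylow 3 G, Nat.card {x : (P : Subgroup G) // x ≠ 1} = 8 := by
      intro P
      rw [Nat.card_eq_fintype_card, Fintype.card_subtype_compl, Fintype.card_subtype_eq,
        ← Nat.card_eq_fintype_card, hP9]
    rw [Nat.card_sigma, Finset.sum_congr rfl (fun P _ => hfib P), Finset.sum_const, smul_eq_mul,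
      Finset.card_univ, ← Nat.card_eq_fintype_card] at hinj
    omega
  have hi45 : Nat.card {t : G // orderOf t = 2} = 45 := by
    have h1 := Invol.card_isConj_mul_card_centralizer z
    rw [card_centralizer e, h] at h1
    have h2 : Nat.card {y : G // IsConj z y} = Nat.card {t : G // orderOf t = 2} :=
      Nat.card_congr (Equiv.subtypeEquivRight fun y => ⟨fun hy => by
        obtain ⟨g, rfl⟩ := isConj_iff.1 hy
        rw [← MulAut.conj_apply, MulEquiv.orderOf_eq]; exact hz, hconj y⟩)
    omega
  obtain ⟨a, b, ha, hb, hab5⟩ := exists_pair_five rfl hbig hi45 (fun g hg => (hC3 g hg).le) hC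
    (fun t ht => by obtain ⟨et⟩ := he t ht; exact card_involutions et)
    (fun t ht => by obtain ⟨et⟩ := he t ht; exact card_klein et ht)
    (fun V hV => by
      have hn : Nontrivial V := Finite.one_lt_card_iff_nontrivial.1 (by rw [hV.card_four]; norm_num)
      obtain ⟨u, hu⟩ := exists_ne (1 : V)
      have ho : orderOf (u : G) = 2 :=
        orderOf_eq_prime (by rw [sq]; exact congrArg Subtype.val (IsKleinFour.mul_self u))
          (fun h1 => hu (Subtype.ext h1))
      obtain ⟨eu⟩ := he _ ho
      exact centralizer_le_self eu ho hV u.2) hord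
  obtain ⟨H, hH⟩ := exists_sixty (x := b) (y := (a * b)⁻¹) (by rw [← hb, pow_orderOf_eq_one])
    (by rw [inv_pow, ← hab5, pow_orderOf_eq_one, inv_one])
    (by
      rw [mul_inv_rev, mul_inv_cancel_left, inv_pow, ← ha, pow_orderOf_eq_one, inv_one])
    (fun h1 => by rw [inv_eq_one] at h1; rw [h1, orderOf_one] at hab5; omega)
  have hi : H.index = 6 := by
    have h1 := H.card_mul_index
    rw [hH, h] at h1
    omega
  exact equiv_alt_of_action h (α := G ⧸ H) hi

end Cfsg.Agent.Fg24.InvolD8
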