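import Cfsg.Agent.Fg24.InvolD8.Small
import Cfsg.Agent.Fg24.InvolD8.Local
import Cfsg.Agent.Fg24.InvolD8.KleinOrder
import Cfsg.Agent.Invol.DihedralSylow
import Cfsg.Agent.Invol.ZStar
import Cfsg.Agent.Char.KleinGroup

/-!
The groups with a dihedral involution centralizer of order eight and two classes of involutions.
-/

set_option autoImplicit false

namespace Cfsg.Agent.Fg24.InvolD8

open DihedralGroup Cfsg.Agent.Invol

variable {G : Type*} [Group G] [Finite G]

theorem oddCore_eq_bot_of_pair {z t : G} (hz : orderOf z = 2) (ht : orderOf t = 2)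
    (hzt : z * t = t * z) (hne : z ≠ t) (hCz : Nat.card (Subgroup.centralizer ({z} : Set G)) = 8)
    (h1 : IsConj z t) (h2 : IsConj z (z * t)) : Cfsg.oddCore G = ⊥ := by
  classical
  set O := Cfsg.oddCore G
  have hodd : ¬ 2 ∣ Nat.card O := Core.not_dvd_card_pPrimeCore (p := 2) (G := G)
  have hfix : ∀ x ∈ O, x * z = z * x → x = 1 := by
    intro x hx hxz
    have h8 := Subgroup.orderOf_dvd_natCard (Subgroup.centralizer ({z} : Set G))
      (Subgroup.mem_centralizer_singleton_iff.2 hxz)
    rw [hCz] at h8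
    have hO := Subgroup.orderOf_dvd_natCard O hx
    have hmem : orderOf x ∈ Nat.divisors 8 := Nat.mem_divisors.2 ⟨h8, by norm_num⟩
    rw [show Nat.divisors 8 = {1, 2, 4, 8} from by decide] at hmem
    simp only [Finset.mem_insert, Finset.mem_singleton] at hmem
    rcases hmem with h | h | h | h
    · exact orderOf_eq_one_iff.1 h
    all_goals exfalso; rw [h] at hO; exact hodd (Dvd.dvd.trans (by norm_num) hO)
  have hinvert : ∀ t' : G, IsConj z t' → orderOf t' = 2 → ∀ x ∈ O, t' * x * t'⁻¹ = x⁻¹ := by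
    intro t' hc ht'
    obtain ⟨g, hg⟩ := isConj_iff.1 hc
    let φ : O →* O :=
      { toFun := fun x => ⟨t' * x * t'⁻¹, (inferInstance : O.Normal).conj_mem _ x.2 t'⟩
        map_one' := Subtype.ext (by simp)
        map_mul' := fun x y => Subtype.ext (by simp [mul_assoc]) }
    have hfp : MonoidHom.FixedPointFree φ := by
      intro x hx
      have hx' : t' * (x : G) * t'⁻¹ = x := congrArg Subtype.val hx
      have := hfix (g⁻¹ * x * g)
        (by simpa using (inferInstance : O.Normal).conj_mem _ x.2 g⁻¹) (by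
          rw [← hg, mul_inv_eq_iff_eq_mul] at hx'
          calc g⁻¹ * x * g * z = g⁻¹ * ((x : G) * (g * z * g⁻¹)) * g := by group
            _ = g⁻¹ * ((g * z * g⁻¹) * x) * g := by rw [hx']
            _ = z * (g⁻¹ * x * g) := by group)
      refine Subtype.ext ?_
      calc (x : G) = g * (g⁻¹ * x * g) * g⁻¹ := by group
        _ = 1 := by rw [this, mul_one, mul_inv_cancel]
    have h2 : Function.Involutive φ := fun x => Subtype.ext (by
      show t' * (t' * x * t'⁻¹) * t'⁻¹ = (x : G)
      have h := pow_orderOf_eq_one t'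
      rw [ht', sq] at h
      rw [inv_eq_of_mul_eq_one_right h, ← mul_assoc, ← mul_assoc, h, one_mul, mul_assoc, h, mul_one])
    intro x hx
    exact congrArg Subtype.val
      (congrFun (MonoidHom.FixedPointFree.coe_eq_inv_of_involutive hfp h2) ⟨x, hx⟩)
  have hzto : orderOf (z * t) = 2 := by
    refine orderOf_eq_prime ?_ fun h => hne ?_
    · rw [(show Commute z t from hzt).mul_pow]
      rw [show z ^ 2 = 1 by rw [← hz, pow_orderOf_eq_one], show t ^ 2 = 1 by rw [← ht, pow_orderOf_eq_one],
        one_mul]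
    · have ht2 : t * t = 1 := by rw [← sq, ← ht, pow_orderOf_eq_one]
      rw [mul_eq_one_iff_eq_inv] at h
      rw [h, inv_eq_of_mul_eq_one_right ht2]
  refine Subgroup.eq_bot_iff_forall _ |>.2 fun x hx => ?_
  have a1 := hinvert z (IsConj.refl z) hz x hx
  have a2 := hinvert t h1 ht x⁻¹ (inv_mem hx)
  have a3 := hinvert (z * t) h2 hzto x hx
  have e : z * t * x * (z * t)⁻¹ = z * (t * x * t⁻¹) * z⁻¹ := by group
  have a4 : t * x * t⁻¹ = x⁻¹ := hinvert t h1 ht x hx
  rw [e, a4] at a3
  have a5 : z * x⁻¹ * z⁻¹ = x := by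
    rw [show z * x⁻¹ * z⁻¹ = (z * x * z⁻¹)⁻¹ by group, a1, inv_inv]
  rw [a5] at a3
  -- now `x = x⁻¹` for an element of odd order
  have hsq : x ^ 2 = 1 := by
    rw [sq]; nth_rewrite 2 [a3]; exact mul_inv_cancel x
  have hd := orderOf_dvd_of_pow_eq_one hsq
  rcases (Nat.dvd_prime Nat.prime_two).1 hd with h | h
  · exact orderOf_eq_one_iff.1 h
  · exact absurd (h ▸ Subgroup.orderOf_dvd_natCard O hx) hodd

theorem dh_two : dh 2 = (2 : ZMod (2 ^ 2)) := by decide

/-- One of the two classes of reflections is not fused with the central involution. -/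
theorem mixed (hO : Cfsg.oddCore G = ⊥) (S : Sylow 2 G) {ι : DihedralGroup (2 ^ 2) →* G}
    (D : DData S 2 ι) (hC : Subgroup.centralizer ({ι (r (dh 2))} : Set G) = (S : Subgroup G))
    {a b : ZMod (2 ^ 2)} (ha : ¬ IsConj (ι (sr a)) (ι (r (dh 2))))
    (hb : IsConj (ι (sr b)) (ι (r (dh 2)))) :
    Nonempty (G ≃* Equiv.Perm (Fin 4)) ∨ Nonempty (G ≃* Equiv.Perm (Fin 5)) := by
  classical
  have h2f : Fact (Nat.Prime 2) := ⟨Nat.prime_two⟩
  set z := ι (r (dh 2)) with hzdef
  obtain ⟨N, hN, hNi, haN⟩ := D.index_two_of_not_conj ha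
  have hz2 : orderOf z = 2 := D.z_order
  have hzN : z ∈ N := by
    have : z = ι (r 1) * ι (r 1) := by rw [hzdef, ← map_mul, r_mul_r, dh_two]; rfl
    rw [this]
    exact Subgroup.mul_self_mem_of_index_two hNi _
  have hbN : ι (sr b) ∈ N := by
    obtain ⟨g, hg⟩ := isConj_iff.1 hb.symm
    rw [← hg]; exact hN.conj_mem _ hzN g
  have hS8 : Nat.card (S : Subgroup G) = 8 := by rw [D.card_sylow]; norm_num
  have hCz : Nat.card (Subgroup.centralizer ({z} : Set G)) = 8 := by rw [hC, hS8]
  set V := (S : Subgroup G) ⊓ N with hVdef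
  have hzS : z ∈ (S : Subgroup G) := D.mem _
  have hbS : ι (sr b) ∈ (S : Subgroup G) := D.mem _
  have hV4 : Nat.card V = 4 := by
    have h1 : Nat.card V * N.relIndex (S : Subgroup G) = 8 := by
      have h0 : Nat.card (N.subgroupOf (S : Subgroup G)) * N.relIndex (S : Subgroup G) =
          Nat.card (S : Subgroup G) := (N.subgroupOf (S : Subgroup G)).card_mul_index
      have h0' : Nat.card (N.subgroupOf (S : Subgroup G)) = Nat.card V := by
        rw [← Subgroup.inf_subgroupOf_left]
        exact Nat.card_congr (Subgroup.subgroupOfEquivOfLe inf_le_left).toEquiv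
      rw [← hS8, ← h0', h0]
    have h2 : N.relIndex (S : Subgroup G) ∣ 2 := by
      have h := Subgroup.relIndex_dvd_index_of_normal N (S : Subgroup G)
      rwa [hNi] at h
    have h3 : N.relIndex (S : Subgroup G) ≠ 1 := fun h =>
      haN (Subgroup.relIndex_eq_one.1 h (D.mem _))
    rcases (Nat.dvd_prime Nat.prime_two).1 h2 with h | h
    · exact absurd h h3
    · rw [h] at h1; omega
  have hsq : ∀ v ∈ V, v * v = 1 := by
    let W := Classical.KleinN.ofPair z (ι (sr b)) (by rw [← sq, ← hz2, pow_orderOf_eq_one])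
      (by have h := pow_orderOf_eq_one (ι (sr b)); rwa [D.sr_order b, sq] at h) (D.z_comm hbS).symm
    have hWV : W ≤ V := by
      rintro x (rfl | rfl | rfl | rfl)
      exacts [one_mem _, ⟨hzS, hzN⟩, ⟨hbS, hbN⟩, mul_mem ⟨hzS, hzN⟩ ⟨hbS, hbN⟩]
    have hzb : z ≠ ι (sr b) := fun h => by
      rw [hzdef] at h; exact DihedralGroup.noConfusion rfl (heq_of_eq (D.inj h))
    have hW : IsKleinFour W := Classical.KleinN.isKleinFour_ofPair _ _ _
      (fun h => by rw [h, orderOf_one] at hz2; omega)
      (fun h => by have := D.sr_order b; rw [h, orderOf_one] at this; omega) hzb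
    have : W = V := Subgroup.eq_of_le_of_card_ge hWV (by rw [hV4, hW.card_four])
    intro v hv
    rw [← this] at hv
    exact congrArg Subtype.val (IsKleinFour.mul_self (⟨v, hv⟩ : W))
  have hVK : IsKleinFour V := by
    refine ⟨hV4, ?_⟩
    have : Nontrivial V := Finite.one_lt_card_iff_nontrivial.1 (by omega)
    exact (Monoid.exponent_eq_prime_iff Nat.prime_two).2 fun g hg =>
      orderOf_eq_prime (by rw [sq]; exact Subtype.ext (hsq g g.2)) hg
  obtain ⟨e⟩ : Nonempty (Subgroup.centralizer ({z} : Set G) ≃* DihedralGroup 4) :=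
    ⟨((MulEquiv.subgroupCongr hC).trans (MulEquiv.subgroupCongr D.range.symm)).trans
      (MonoidHom.ofInjective D.inj).symm⟩
  have hCV : Subgroup.centralizer (V : Set G) ≤ V := centralizer_le_self e hz2 hVK ⟨hzS, hzN⟩
  -- the Klein Sylow subgroup of `N`
  obtain ⟨m, hm, hG8⟩ : ∃ m, Odd m ∧ Nat.card G = 8 * m := by
    refine ⟨(S : Subgroup G).index, ?_, by rw [← hS8, Subgroup.card_mul_index]⟩
    exact Nat.not_even_iff_odd.1 fun h => S.not_dvd_index (even_iff_two_dvd.1 h)
  have hNc : Nat.card N = 4 * m := by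
    have := N.card_mul_index
    rw [hNi, hG8] at this
    omega
  let P : Sylow 2 N := Sylow.ofCard (V.subgroupOf N) (by
    rw [Nat.card_congr (Subgroup.subgroupOfEquivOfLe (inf_le_right : V ≤ N)).toEquiv, hV4, hNc,
      show (4 : ℕ) = 2 ^ 2 from rfl, Nat.factorization_mul (by norm_num) hm.pos.ne', Finsupp.add_apply,
      Nat.prime_two.factorization_pow, Finsupp.single_eq_same,
      Nat.factorization_eq_zero_of_not_dvd (Nat.two_dvd_ne_zero.2 (Nat.odd_iff.1 hm)), add_zero])
  have hP : ∀ x : N, x ∈ (P : Subgroup N) ↔ (x : G) ∈ V := fun x => Subgroup.mem_subgroupOf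
  have hnc : ¬ ∃ M : Subgroup N, M.Normal ∧ Nat.card M = m := by
    rintro ⟨M, hMn, hMc⟩
    have hle : M ≤ Cfsg.oddCore N := Core.le_pPrimeCore (p := 2)
      (by rw [hMc]; exact (Nat.prime_two.coprime_iff_not_dvd.2
        (Nat.two_dvd_ne_zero.2 (Nat.odd_iff.1 hm))).symm)
    have hch : (Cfsg.oddCore N).Characteristic := Core.pPrimeCore_characteristic
    have hbot : (Cfsg.oddCore N).map N.subtype = ⊥ := eq_bot_of_odd hO _ (by
      rw [Subgroup.card_map_of_injective N.subtype_injective]
      exact Core.not_dvd_card_pPrimeCore (p := 2) (G := N))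
    rw [Subgroup.map_eq_bot_iff_of_injective _ N.subtype_injective] at hbot
    rw [hbot, le_bot_iff] at hle
    rw [hle, Subgroup.card_bot] at hMc
    have hG : Nat.card G = 8 := by rw [hG8, ← hMc]
    have htop : (S : Subgroup G) = ⊤ := Subgroup.eq_top_of_card_eq _ (by rw [hS8, hG])
    obtain ⟨g, hg⟩ := isConj_iff.1 hb.symm
    have hgz : g * z = z * g := Subgroup.mem_centralizer_singleton_iff.1 (by
      rw [hC, htop]; trivial)
    rw [hgz, mul_inv_cancel_right, hzdef] at hg
    exact DihedralGroup.noConfusion rfl (heq_of_eq (D.inj hg))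
  have hzP : (⟨z, hzN⟩ : N) ∈ (P : Subgroup N) := (hP _).2 ⟨hzS, hzN⟩
  have hzo : orderOf (⟨z, hzN⟩ : N) = 2 := by rw [Subgroup.orderOf_mk, hz2]
  have hCK : Nat.card (Subgroup.centralizer ({(⟨z, hzN⟩ : N)} : Set N)) = 4 := by
    rw [← hV4]
    refine Nat.card_congr
      { toFun := fun x => ⟨(x : N).1, ?_, x.1.2⟩
        invFun := fun v => ⟨⟨v.1, v.2.2⟩, ?_⟩
        left_inv := fun x => rfl
        right_inv := fun v => rfl }
    · show ((x : N) : G) ∈ (S : Subgroup G)
      rw [← hC]
      exact Subgroup.mem_centralizer_singleton_iff.2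
        (congrArg Subtype.val (Subgroup.mem_centralizer_singleton_iff.1 x.2))
    · have h : (v : G) ∈ Subgroup.centralizer ({z} : Set G) := by rw [hC]; exact v.2.1
      exact Subgroup.mem_centralizer_singleton_iff.2
        (Subtype.ext (Subgroup.mem_centralizer_singleton_iff.1 h))
  have hord := card_klein_selfcentralizing m hm hNc hnc P ⟨z, hzN⟩ hzP hzo hCK
  -- the involutions of `N`
  have hinv : ∀ t ∈ N, orderOf t = 2 → ∃ g : G, g * z * g⁻¹ = t := by
    intro t htN ht
    have hpg : IsPGroup 2 (Subgroup.zpowers (⟨t, htN⟩ : N)) := IsPGroup.of_card (n := 1)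
      (by rw [Nat.card_zpowers, Subgroup.orderOf_mk, ht, pow_one])
    obtain ⟨R, hR⟩ := hpg.exists_le_sylow
    obtain ⟨n, hn⟩ := MulAction.exists_smul_eq N R P
    have hmem : n * ⟨t, htN⟩ * n⁻¹ ∈ (P : Subgroup N) := by
      rw [← hn, Sylow.coe_subgroup_smul]
      exact ⟨⟨t, htN⟩, hR (Subgroup.mem_zpowers _), rfl⟩
    obtain ⟨-, hc⟩ := Char.sylow_four_involutions hNc hm hnc P hzP hzo hmem (fun h => by
      rw [conj_eq_one_iff] at h
      rw [show t = 1 from congrArg Subtype.val h, orderOf_one] at ht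
      omega)
    obtain ⟨g, hg⟩ := isConj_iff.1 hc
    refine ⟨(n : G)⁻¹ * g, ?_⟩
    have hg' : (g : G) * z * (g : G)⁻¹ = n * t * (n : G)⁻¹ := congrArg Subtype.val hg
    calc (n : G)⁻¹ * g * z * ((n : G)⁻¹ * g)⁻¹ = (n : G)⁻¹ * ((g : G) * z * (g : G)⁻¹) * n := by group
      _ = t := by rw [hg']; group
  have hbig : ∀ M : Subgroup G, M.Normal → M ≠ ⊥ → ∀ t ∈ N, orderOf t = 2 → t ∈ M := by
    intro M hM hne t htN ht
    have hMN : M ⊓ N ≠ ⊥ := by
      intro hbot
      have hcard : Nat.card M ≤ 2 := by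
        have h1 : N.relIndex M ≤ 2 :=
          Nat.le_of_dvd (by norm_num) (by
            have h := Subgroup.relIndex_dvd_index_of_normal N M
            rwa [hNi] at h)
        have h2 := (N.subgroupOf M).card_mul_index
        have h3 : N.subgroupOf M = ⊥ := by
          rw [← Subgroup.inf_subgroupOf_left, hbot, Subgroup.bot_subgroupOf]
        change Nat.card (N.subgroupOf M) * N.relIndex M = _ at h2
        rw [h3, Subgroup.card_bot, one_mul] at h2
        omega
      have hM2 : Nat.card M = 2 := by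
        have h1 : 1 < Nat.card M := (Subgroup.one_lt_card_iff_ne_bot M).2 hne
        omega
      have : Nontrivial M := Finite.one_lt_card_iff_nontrivial.1 (by omega)
      obtain ⟨⟨y, hy⟩, hy1⟩ := exists_ne (1 : M)
      have hy1' : y ≠ 1 := fun h => hy1 (Subtype.ext h)
      have hyc : ∀ g : G, g * y = y * g := by
        intro g
        have hgy := hM.conj_mem y hy g
        obtain ⟨p, q, hpq, huniv⟩ := Nat.card_eq_two_iff.1 hM2
        have hall : ∀ w : M, w = 1 ∨ w = ⟨y, hy⟩ := fun w => by
          have hw : w ∈ ({p, q} : Set M) := huniv ▸ Set.mem_univ w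
          have h1 : (1 : M) ∈ ({p, q} : Set M) := huniv ▸ Set.mem_univ _
          have hy' : (⟨y, hy⟩ : M) ∈ ({p, q} : Set M) := huniv ▸ Set.mem_univ _
          simp only [Set.mem_insert_iff, Set.mem_singleton_iff] at hw h1 hy'
          rcases hw with rfl | rfl <;> rcases h1 with h1 | h1 <;> rcases hy' with h' | h' <;>
            simp_all
        rcases hall ⟨_, hgy⟩ with h | h
        · exact absurd (conj_eq_one_iff.1 (congrArg Subtype.val h)) hy1'
        · have := mul_inv_eq_iff_eq_mul.1 (congrArg Subtype.val h)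
          exact this
      have hyS : y ∈ (S : Subgroup G) := by
        rw [← hC]; exact Subgroup.mem_centralizer_singleton_iff.2 (hyc z).symm
      obtain ⟨d, rfl⟩ := D.exists_eq hyS
      have hd : d = r 2 := by
        refine dih_central d (D.inj ?_) (fun h => hy1' (by rw [h, map_one])) (D.inj ?_) (D.inj ?_)
        · rw [map_mul, map_one]
          have h := Subgroup.orderOf_dvd_natCard M hy
          rw [hM2] at h
          rw [← sq]; exact orderOf_dvd_iff_pow_eq_one.1 h
        · rw [map_mul, map_mul]; exact (hyc _).symm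
        · rw [map_mul, map_mul]; exact (hyc _).symm
      rw [hd, show (r 2 : DihedralGroup (2 ^ 2)) = r (dh 2) by rw [dh_two]] at hy
      have : z ∈ M ⊓ N := ⟨hy, hzN⟩
      rw [hbot, Subgroup.mem_bot] at this
      rw [this, orderOf_one] at hz2
      omega
    have h2 : 2 ∣ Nat.card (M ⊓ N : Subgroup G) := by
      by_contra h
      exact hMN (eq_bot_of_odd hO _ h)
    obtain ⟨u, hu⟩ := exists_prime_orderOf_dvd_card' 2 h2
    rw [← Subgroup.orderOf_coe] at hu
    obtain ⟨g, hg⟩ := hinv u u.2.2 hu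
    obtain ⟨g', hg'⟩ := hinv t htN ht
    have hzM : z ∈ M := by
      have := hM.conj_mem _ u.2.1 g⁻¹
      rwa [← hg, show g⁻¹ * (g * z * g⁻¹) * g⁻¹⁻¹ = z by group] at this
    rw [← hg']; exact hM.conj_mem z hzM g'
  have hVinvol : ∀ v ∈ V, v ≠ 1 → orderOf v = 2 := fun v hv h1 =>
    orderOf_eq_prime (by rw [sq]; exact hsq v hv) h1
  rcases hord with rfl | rfl
  · -- order 24
    left
    have : Fact (Nat.Prime 3) := ⟨Nat.prime_three⟩
    let T : Sylow 3 G := default
    obtain ⟨hT, hTi⟩ := Classical.Small.sylow_card_eq T (m := 8) (by omega) (by norm_num)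
    have hdvd : Nat.card (Sylow 3 G) ∣ 8 := hTi ▸ T.card_dvd_index
    have hmod : Nat.card (Sylow 3 G) % 3 = 1 := card_sylow_modEq_one 3 G
    have hne1 : Nat.card (Sylow 3 G) ≠ 1 := fun h => by
      have : Subsingleton (Sylow 3 G) := (Nat.card_eq_one_iff_unique.1 h).1
      have := Sylow.normal_of_subsingleton T
      have := eq_bot_of_odd hO (T : Subgroup G) (by rw [hT]; norm_num)
      rw [this, Subgroup.card_bot] at hT
      omega
    have h4 : Nat.card (Sylow 3 G) = 4 := by
      have key : ∀ d ∈ Nat.divisors 8, d % 3 = 1 → d = 1 ∨ d = 4 := by decide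
      exact (key _ (Nat.mem_divisors.2 ⟨hdvd, by norm_num⟩) hmod).resolve_left hne1
    set H := Subgroup.normalizer ((T : Subgroup G) : Set G) with hH
    have hHi : H.index = 4 := by
      rw [← h4]; exact T.card_eq_index_normalizer.symm
    refine equiv_perm_of_index H hHi (by rw [hG8]; rfl) ?_
    by_contra hne
    have hVH : V ≤ H := fun v hv => by
      by_cases h1 : v = 1
      · rw [h1]; exact one_mem _
      · exact H.normalCore_le (hbig _ H.normalCore_normal hne v hv.2 (hVinvol v hv h1))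
    have := Subgroup.card_dvd_of_le hVH
    have hH6 := H.card_mul_index
    rw [hHi, hG8] at hH6
    rw [hV4] at this
    omega
  · -- order 120
    right
    set H := Subgroup.normalizer (V : Set G) with hH
    have hSH : (S : Subgroup G) ≤ H := by
      intro s hs
      refine Subgroup.mem_normalizer_iff.2 fun v =>
        ⟨fun hv => Subgroup.mem_inf.2 ⟨?_, hN.conj_mem v hv.2 s⟩, fun hv => Subgroup.mem_inf.2 ⟨?_, ?_⟩⟩
      · exact mul_mem (mul_mem hs (Subgroup.mem_inf.1 hv).1) (inv_mem hs)
      · have := mul_mem (mul_mem (inv_mem hs) (Subgroup.mem_inf.1 hv).1) hs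
        rwa [show s⁻¹ * (s * v * s⁻¹) * s = v by group] at this
      · have := hN.conj_mem _ hv.2 s⁻¹
        rwa [show s⁻¹ * (s * v * s⁻¹) * s⁻¹⁻¹ = v by group] at this
    obtain ⟨h24, -⟩ := Classical.KleinN.normalizer_cap V hCV
    have h8 := Subgroup.card_dvd_of_le hSH
    rw [hS8] at h8
    have hd := H.card_subgroup_dvd_card
    rw [hG8] at hd
    have hH24 : Nat.card H = 24 := by
      have hne8 : Nat.card H ≠ 8 := by
        intro h
        have hHS : H = (S : Subgroup G) :=
          (Subgroup.eq_of_le_of_card_ge hSH (by rw [h, hS8])).symm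
        refine hnc ?_
        obtain ⟨M, hM, hMc, -⟩ := Char.exists_complement_of_normalizer_le hNc hm P (fun x hx => by
          rw [Subgroup.mem_centralizer_iff]
          intro y hy
          have hxH : (x : G) ∈ H := by
            refine Subgroup.mem_normalizer_iff.2 fun v => ⟨fun hv => ?_, fun hv => ?_⟩
            · exact (hP _).1 ((Subgroup.mem_normalizer_iff.1 hx ⟨v, hv.2⟩).1 ((hP _).2 hv))
            · have hvN : v ∈ N := by
                have := hN.conj_mem _ hv.2 (x : G)⁻¹
                rwa [show (x : G)⁻¹ * (x * v * (x : G)⁻¹) * (x : G)⁻¹⁻¹ = v by group] at this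
              exact (hP _).1 ((Subgroup.mem_normalizer_iff.1 hx ⟨v, hvN⟩).2 ((hP _).2 hv))
          rw [hHS] at hxH
          exact Char.sylow_four_comm hNc hm P hy ((hP x).2 ⟨hxH, x.2⟩))
        exact ⟨M, hM, hMc⟩
      obtain ⟨c, hc⟩ := h8
      rw [hc] at hd h24 hne8
      have hc3 : c ≤ 3 := by omega
      have hcd : c ∣ 15 := Nat.dvd_of_mul_dvd_mul_left (by norm_num) hd
      rw [hc]
      interval_cases c <;> omega
    have hHi : H.index = 5 := by
      have := H.card_mul_index
      rw [hH24, hG8] at this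
      omega
    refine equiv_perm_of_index H hHi (by rw [hG8]; rfl) ?_
    by_contra hne
    have hall : ∀ t ∈ N, orderOf t = 2 → t ∈ V := by
      intro t htN ht
      have htH : t ∈ H := H.normalCore_le (hbig _ H.normalCore_normal hne t htN ht)
      have hnP : (⟨t, htN⟩ : N) ∈ Subgroup.normalizer ((P : Subgroup N) : Set N) := by
        refine Subgroup.mem_normalizer_iff.2 fun v => ?_
        rw [hP, hP]
        exact Subgroup.mem_normalizer_iff.1 htH (v : G)
      have hpg : IsPGroup 2 (Subgroup.zpowers (⟨t, htN⟩ : N)) := IsPGroup.of_card (n := 1)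
        (by rw [Nat.card_zpowers, Subgroup.orderOf_mk, ht, pow_one])
      have hle : Subgroup.zpowers (⟨t, htN⟩ : N) ⊓ Subgroup.normalizer ((P : Subgroup N) : Set N) =
          Subgroup.zpowers (⟨t, htN⟩ : N) ⊓ (P : Subgroup N) := hpg.inf_normalizer_sylow P
      have : (⟨t, htN⟩ : N) ∈ Subgroup.zpowers (⟨t, htN⟩ : N) ⊓ (P : Subgroup N) := by
        rw [← hle]; exact ⟨Subgroup.mem_zpowers _, hnP⟩
      exact (hP _).1 this.2
    have htop : H = ⊤ := eq_top_iff.2 fun g _ => by
      refine Subgroup.mem_normalizer_iff_map_conj_eq.2 (Subgroup.eq_of_le_of_card_ge ?_ ?_)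
      · rintro x ⟨v, hv, rfl⟩
        by_cases h1 : v = 1
        · rw [h1, map_one]; exact one_mem _
        · exact hall _ (hN.conj_mem v hv.2 g)
            ((MulEquiv.orderOf_eq (MulAut.conj g) v).trans (hVinvol v hv h1))
      · exact le_of_eq (Subgroup.card_map_of_injective (MulEquiv.injective _)).symm
    rw [htop, Subgroup.index_top] at hHi
    omega

end Cfsg.Agent.Fg24.InvolD8
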