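import Cfsg.Agent.S4481
import Cfsg.Agent.S4482
import Cfsg.Agent.Fg24.InvolD8.A6
import Cfsg.Agent.Fg24.InvolD8.Mixed
import Cfsg.Agent.Classical.SmallPSL

/-!
The case of one class of involutions.
-/

set_option autoImplicit false

namespace Cfsg.Agent.Fg24.InvolD8

open DihedralGroup Cfsg.Agent.Invol

theorem dih_commute_sr_card : ∀ c : DihedralGroup 4,
    (∃ i, c = sr i) → (Finset.univ.filter fun d : DihedralGroup 4 => d * c = c * d).card = 4 := by
  decide

/-- Only 168 and 360 satisfy the order formula. -/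
theorem order_arith (m x : ℕ) (δ : ℤ) (hδ : δ = 1 ∨ δ = -1) (hm : Odd m) (hx : 0 < x)
    (hne : (x : ℤ) ≠ δ) (h : (m : ℤ) * ((x : ℤ) - δ) ^ 2 = 32 * x * (x + δ)) : m = 21 ∨ m = 45 := by
  obtain ⟨i, rfl⟩ := hm
  have hy : (x : ℤ) - δ ∣ 64 := by
    rcases hδ with rfl | rfl
    · exact ⟨(2 * (i : ℤ) + 1) * ((x : ℤ) - 1) - 32 * ((x : ℤ) - 1) - 96, by push_cast at h ⊢; linarith⟩
    · exact ⟨(2 * (i : ℤ) + 1) * ((x : ℤ) + 1) - 32 * ((x : ℤ) + 1) + 96, by push_cast at h ⊢; linarith⟩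
  have hpos : 0 < (x : ℤ) - δ := by rcases hδ with rfl | rfl <;> omega
  obtain ⟨y, hy'⟩ : ∃ y : ℕ, (x : ℤ) - δ = y := ⟨((x : ℤ) - δ).toNat, by omega⟩
  rw [hy'] at hy hpos
  have hyd : y ∈ Nat.divisors 64 := Nat.mem_divisors.2 ⟨by exact_mod_cast hy, by norm_num⟩
  rw [show Nat.divisors 64 = {1, 2, 4, 8, 16, 32, 64} from by decide] at hyd
  simp only [Finset.mem_insert, Finset.mem_singleton] at hyd
  push_cast at h
  have hxe : (x : ℤ) = y + δ := by omega
  rw [hy', hxe] at h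
  rcases hδ with rfl | rfl <;> rcases hyd with rfl | rfl | rfl | rfl | rfl | rfl | rfl <;>
    norm_num at h <;> omega

variable {G : Type*} [Group G] [Finite G]

theorem card_of_fused (S : Sylow 2 G) {ι : DihedralGroup (2 ^ 2) →* G} (D : DData S 2 ι)
    (hC : Subgroup.centralizer ({ι (r (dh 2))} : Set G) = (S : Subgroup G))
    (hall : ∀ a, IsConj (ι (sr a)) (ι (r (dh 2)))) : Nat.card G = 168 ∨ Nat.card G = 360 := by
  classical
  cases nonempty_fintype G
  obtain ⟨M, hM⟩ := Blocks.exists_isPModular 2 Nat.prime_two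
  set σ := ι (r 1) with hσ
  set τ := ι (sr 0) with hτ
  set ζ := Complex.exp (2 * Real.pi * Complex.I / ((2 ^ (3 - 1) : ℕ) : ℂ))
  have hζ : IsPrimitiveRoot ζ (2 ^ (3 - 1)) := Complex.isPrimitiveRoot_exp _ (by norm_num)
  have hσo : orderOf σ = 2 ^ (3 - 1) := by
    rw [hσ, orderOf_injective ι D.inj, DihedralGroup.orderOf_r_one]
  have hP : Nonempty ((S : Subgroup G) ≃* DihedralGroup (2 ^ (3 - 1))) :=
    ⟨((MonoidHom.ofInjective D.inj).trans (MulEquiv.subgroupCongr D.range)).symm⟩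
  obtain ⟨-, χ₁, χ₂, χ₃, χ', δ₁, δ₂, δ₃, hd1, -, -, -, hne, -, -, -, -, -, -, hB, hval, -⟩ :=
    S4481.result M hM 3 le_rfl S hP σ (D.mem _) hσo ζ hζ
  have hmem : χ₁ ∈ Cfsg.principalBlock M G := by rw [hB]; exact Or.inr (Or.inl rfl)
  have hz : σ ^ (2 ^ (3 - 2)) = ι (r (dh 2)) := by
    rw [hσ, ← map_pow, r_one_pow]; rfl
  have hrel : τ * σ * τ⁻¹ = σ⁻¹ := by
    rw [hσ, hτ, ← map_inv, ← map_inv, ← map_mul, ← map_mul]
    exact congrArg ι (by decide)
  have hgen : Subgroup.closure ({σ, τ} : Set G) = (S : Subgroup G) := by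
    refine le_antisymm ?_ fun x hx => ?_
    · rw [Subgroup.closure_le]
      rintro x (rfl | rfl) <;> exact D.mem _
    · obtain ⟨d, rfl⟩ := D.exists_eq hx
      have hr : ∀ i : ZMod (2 ^ 2), ι (r i) ∈ Subgroup.closure ({σ, τ} : Set G) := fun i => by
        rw [← ZMod.natCast_zmod_val i, ← r_one_pow, map_pow]
        exact Subgroup.pow_mem _ (Subgroup.subset_closure (Set.mem_insert σ {τ})) _
      rcases d with i | i
      · exact hr i
      · rw [show sr i = sr 0 * r i by rw [sr_mul_r, zero_add], map_mul]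
        exact mul_mem (Subgroup.subset_closure (Or.inr rfl)) (hr i)
  have hconj : IsConj (σ ^ (2 ^ (3 - 2))) τ ∧ IsConj (σ ^ (2 ^ (3 - 2))) (σ * τ) := by
    rw [hz, hσ, hτ, ← map_mul, r_mul_sr]
    exact ⟨(hall _).symm, (hall _).symm⟩
  have hτo : orderOf τ = 2 := D.sr_order 0
  obtain ⟨hx, hord⟩ := S4482.result M hM 3 le_rfl S σ τ (D.mem _) (D.mem _) hσo hτo hrel hgen hconj
    χ₁ hmem hne δ₁ hd1 (fun l h0 h1 => (hval l h0 h1).1)
  have hc8 : Nat.card (Subgroup.centralizer ({ι (r (dh 2))} : Set G)) = 8 := by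
    rw [hC, D.card_sylow]; norm_num
  have hjoint : ∀ i, Nat.card (Subgroup.centralizer ({ι (r (dh 2)), ι (sr i)} : Set G)) = 4 := by
    intro i
    rw [← dih_commute_sr_card (sr i) ⟨i, rfl⟩, ← Fintype.card_subtype, ← Nat.card_eq_fintype_card]
    symm
    have hmem : ∀ d, d * sr i = sr i * d →
        ι d ∈ Subgroup.centralizer ({ι (r (dh 2)), ι (sr i)} : Set G) := by
      intro d hd
      rw [Subgroup.mem_centralizer_iff]
      rintro y (rfl | rfl)
      · exact (D.z_comm (D.mem d)).symm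
      · rw [← map_mul, ← map_mul, hd]
    refine Nat.card_eq_of_bijective
      (fun d => (⟨ι d.1, hmem d.1 d.2⟩ :
        Subgroup.centralizer ({ι (r (dh 2)), ι (sr i)} : Set G))) ⟨?_, ?_⟩
    · intro a b hab
      exact Subtype.ext (D.inj (congrArg Subtype.val hab))
    · rintro ⟨x, hx⟩
      have hxz : x ∈ (S : Subgroup G) := by
        rw [← hC]
        exact Subgroup.centralizer_le (by simp) hx
      obtain ⟨d, rfl⟩ := D.exists_eq hxz
      refine ⟨⟨d, D.inj ?_⟩, rfl⟩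
      rw [map_mul, map_mul]
      exact (Subgroup.mem_centralizer_iff.1 hx _ (Or.inr rfl)).symm
  have e2 : σ * τ = ι (sr (0 - 1)) := by rw [hσ, hτ, ← map_mul, r_mul_sr]
  rw [hz, e2, hc8, hjoint, hjoint] at hord
  obtain ⟨m, hm, hG⟩ : ∃ m, Odd m ∧ Nat.card G = 8 * m := by
    have : Fact (Nat.Prime 2) := ⟨Nat.prime_two⟩
    refine ⟨(S : Subgroup G).index, ?_, ?_⟩
    · exact Nat.not_even_iff_odd.1 fun h => S.not_dvd_index (even_iff_two_dvd.1 h)
    · rw [← (S : Subgroup G).card_mul_index, D.card_sylow]; norm_num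
  obtain ⟨d, hd0, hd⟩ := Char.IsIrr.degree χ₁.2
  rw [Blocks.charDegree_eq hd] at hord hx
  have heq : (m : ℤ) * ((d : ℤ) - δ₁) ^ 2 = 32 * d * (d + δ₁) := by
    rw [hG] at hord
    push_cast at hord
    have : (m : ℚ) * ((d : ℚ) - δ₁) ^ 2 = 32 * d * (d + δ₁) := by linear_combination hord / 8
    exact_mod_cast this
  rw [hG]
  rcases order_arith m d δ₁ hd1 hm hd0 hx heq with rfl | rfl <;> norm_num

theorem simple_of_fused (hO : Cfsg.oddCore G = ⊥) (S : Sylow 2 G) {ι : DihedralGroup (2 ^ 2) →* G}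
    (D : DData S 2 ι) (hC : Subgroup.centralizer ({ι (r (dh 2))} : Set G) = (S : Subgroup G))
    (hall : ∀ a, IsConj (ι (sr a)) (ι (r (dh 2)))) :
    IsSimpleGroup G ∧ ∀ t : G, orderOf t = 2 → IsConj (ι (r (dh 2))) t := by
  have h2f : Fact (Nat.Prime 2) := ⟨Nat.prime_two⟩
  have hconj : ∀ t : G, orderOf t = 2 → IsConj (ι (r (dh 2))) t := by
    intro t ht
    rcases D.exists_conj_involution ht with h | ⟨a, h⟩
    · exact h.symm
    · exact (h.trans (hall a)).symm
  have : Nontrivial G := ⟨⟨ι (r (dh 2)), 1, fun h => by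
    have := D.z_order; rw [h, orderOf_one] at this; omega⟩⟩
  refine ⟨⟨fun N hN => or_iff_not_imp_left.2 fun hne => ?_⟩, hconj⟩
  have h2 : 2 ∣ Nat.card N := by
    by_contra h
    exact hne (eq_bot_of_odd hO N h)
  obtain ⟨u, hu⟩ := exists_prime_orderOf_dvd_card' 2 h2
  rw [← Subgroup.orderOf_coe] at hu
  have hin : ∀ t : G, orderOf t = 2 → t ∈ N := by
    intro t ht
    obtain ⟨g, hg⟩ := isConj_iff.1 ((hconj _ hu).symm.trans (hconj t ht))
    rw [← hg]; exact hN.conj_mem _ u.2 g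
  have hSN : (S : Subgroup G) ≤ N := by
    intro x hx
    obtain ⟨d, rfl⟩ := D.exists_eq hx
    rcases d with i | i
    · rw [show r i = sr 0 * sr i by rw [sr_mul_sr, sub_zero], map_mul]
      exact mul_mem (hin _ (D.sr_order _)) (hin _ (D.sr_order _))
    · exact hin _ (D.sr_order _)
  have hNS : Subgroup.normalizer ((S : Subgroup G) : Set G) ≤ N := by
    refine le_trans ?_ hSN
    intro g hg
    rw [← hC, Subgroup.mem_centralizer_singleton_iff]
    have hzS : ι (r (dh 2)) ∈ (S : Subgroup G) := D.mem _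
    have hgz := (Subgroup.mem_normalizer_iff.1 hg _).1 hzS
    obtain ⟨d, hd⟩ := D.exists_eq hgz
    have hcen : ∀ e, d * e = e * d := by
      intro e
      refine D.inj ?_
      rw [map_mul, map_mul, hd]
      obtain ⟨y, hy, hy'⟩ : ∃ y ∈ (S : Subgroup G), g * y * g⁻¹ = ι e := by
        refine ⟨g⁻¹ * ι e * g, (Subgroup.mem_normalizer_iff.1 hg _).2 ?_, by group⟩
        rw [show g * (g⁻¹ * ι e * g) * g⁻¹ = ι e by group]
        exact D.mem e
      rw [← hy', conj_mul, conj_mul, D.z_comm hy]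
    have hdd : d = r 2 := by
      refine dih_central d (D.inj ?_) (fun h => ?_) (hcen _) (hcen _)
      · rw [map_mul, map_one, hd, conj_mul,
          show ι (r (dh 2)) * ι (r (dh 2)) = 1 by
            have h := pow_orderOf_eq_one (ι (r (dh 2))); rwa [D.z_order, sq] at h,
          mul_one, mul_inv_cancel]
      · rw [h, map_one, eq_comm, conj_eq_one_iff] at hd
        have := D.z_order
        rw [hd, orderOf_one] at this
        omega
    rw [hdd, show (r 2 : DihedralGroup (2 ^ 2)) = r (dh 2) by rw [dh_two], eq_mul_inv_iff_mul_eq] at hd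
    exact hd.symm
  have := Sylow.normalizer_sup_eq_top' S hSN
  rwa [sup_eq_right.2 (show Subgroup.normalizer (S : Set G) ≤ N from hNS)] at this

theorem equiv_of_fused (hO : Cfsg.oddCore G = ⊥) (S : Sylow 2 G) {ι : DihedralGroup (2 ^ 2) →* G}
    (D : DData S 2 ι) (hC : Subgroup.centralizer ({ι (r (dh 2))} : Set G) = (S : Subgroup G))
    (hall : ∀ a, IsConj (ι (sr a)) (ι (r (dh 2)))) :
    Nonempty (G ≃* Matrix.SpecialLinearGroup (Fin 3) (ZMod 2)) ∨
      Nonempty (G ≃* alternatingGroup (Fin 6)) := by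
  classical
  obtain ⟨hs, hconj⟩ := simple_of_fused hO S D hC hall
  rcases card_of_fused S D hC hall with h | h
  · left
    have : Fact (Nat.Prime 7) := ⟨by norm_num⟩
    obtain ⟨e₁⟩ := Classical.Small.simple_168_psl h (F := ZMod 7) (ZMod.card 7)
    obtain ⟨e₂⟩ := Classical.Small.psl_seven_three (F := ZMod 7) (K := ZMod 2) (ZMod.card 7) (ZMod.card 2)
    have hcen : Subgroup.center (Matrix.SpecialLinearGroup (Fin 3) (ZMod 2)) = ⊥ := by
      refine (Subgroup.eq_bot_iff_forall _).2 fun c hc => ?_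
      obtain ⟨x, hx, hc'⟩ := Matrix.SpecialLinearGroup.mem_center_iff.1 hc
      have key : ∀ y : ZMod 2, y ^ 3 = 1 → y = 1 := by decide
      rw [Fintype.card_fin] at hx
      rw [key x hx, map_one] at hc'
      exact Subtype.ext hc'.symm
    exact ⟨e₁.trans (e₂.trans ((QuotientGroup.quotientMulEquivOfEq hcen).trans QuotientGroup.quotientBot))⟩
  · right
    obtain ⟨e⟩ : Nonempty (Subgroup.centralizer ({ι (r (dh 2))} : Set G) ≃* DihedralGroup 4) :=
      ⟨((MulEquiv.subgroupCongr hC).trans (MulEquiv.subgroupCongr D.range.symm)).trans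
        (MonoidHom.ofInjective D.inj).symm⟩
    exact equiv_alt_six h _ D.z_order e hconj

end Cfsg.Agent.Fg24.InvolD8
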